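import Groth.Agent.Sga3B.FreeNbhd
import Mathlib.RingTheory.MvPolynomial.Ideal
import Mathlib.LinearAlgebra.FreeModule.Finite.Basic
import Mathlib.LinearAlgebra.Finsupp.VectorSpace

/-!
# All infinitesimal neighbourhoods of a section of a standard smooth algebra are finite free

* `mem_pow_of_map_mem_pow`: `f : P → B` with `B` formally smooth over `R`, an isomorphism
  `P/𝔪² ≃ B/I²` and `P/𝔪 ≃ B/I`; then `f p ∈ I ^ n` implies `p ∈ 𝔪 ^ n`.
* `free_pow`: `B` standard smooth over `R` with a section `ε`; `B ⧸ (ker ε) ^ n` is finite free over `R`.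
-/

set_option autoImplicit false

universe u

namespace Groth.Agent.Sga3.H813.FreePow

section Ker

variable {R : Type*} [CommRing R] {P : Type*} [CommRing P] [Algebra R P]
  {B : Type*} [CommRing B] [Algebra R B]

theorem mem_pow_of_map_mem_pow [Algebra.FormallySmooth R B] (f : P →ₐ[R] B) (𝔪 : Ideal P) (I : Ideal B)
    (hsurj : ∀ b : B, ∃ p : P, f p - b ∈ I ^ 2) (hinj : ∀ p : P, f p ∈ I ^ 2 → p ∈ 𝔪 ^ 2)
    (hinj1 : ∀ p : P, f p ∈ I → p ∈ 𝔪)
    (hle : ∀ p ∈ 𝔪, f p ∈ I) (n : ℕ) (p : P) (hp : f p ∈ I ^ n) : p ∈ 𝔪 ^ n := by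
  -- the map `B → P / 𝔪 ^ 2`
  have hinj2 : ∀ p ∈ 𝔪 ^ 2, f p ∈ I ^ 2 := by
    intro p hp
    have : (𝔪 ^ 2).map f ≤ I ^ 2 := by
      rw [Ideal.map_pow]
      exact Ideal.pow_right_mono (Ideal.map_le_iff_le_comap.2 hle) 2
    exact this (Ideal.mem_map_of_mem f hp)
  rcases lt_or_ge n 3 with hn | hn
  · interval_cases n
    · simp
    · rw [pow_one] at hp ⊢
      exact hinj1 p hp
    · exact hinj p hp
  let F : P →ₐ[R] B ⧸ I ^ 2 := (Ideal.Quotient.mkₐ R (I ^ 2)).comp f
  have hFs : Function.Surjective F := by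
    intro b
    obtain ⟨b, rfl⟩ := Ideal.Quotient.mk_surjective b
    obtain ⟨p, hp⟩ := hsurj b
    exact ⟨p, Ideal.Quotient.eq.2 hp⟩
  have hFk : RingHom.ker F = 𝔪 ^ 2 := by
    ext p
    rw [RingHom.mem_ker]
    change Ideal.Quotient.mk (I ^ 2) (f p) = 0 ↔ _
    rw [Ideal.Quotient.eq_zero_iff_mem]
    exact ⟨hinj p, hinj2 p⟩
  have hle2 : 𝔪 ^ n ≤ RingHom.ker F := hFk ▸ Ideal.pow_le_pow_right (by omega)
  let G : P ⧸ 𝔪 ^ n →ₐ[R] B ⧸ I ^ 2 := Ideal.Quotient.liftₐ (𝔪 ^ n) F (fun a ha => hle2 ha)
  have hGs : Function.Surjective G := by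
    intro b
    obtain ⟨p, hp⟩ := hFs b
    exact ⟨Ideal.Quotient.mk _ p, hp⟩
  have hGk : ∀ p : P, G (Ideal.Quotient.mk _ p) = 0 → p ∈ 𝔪 ^ 2 := by
    intro p hp
    rw [← hFk]
    exact hp
  have hGnil : IsNilpotent (RingHom.ker (G : P ⧸ 𝔪 ^ n →+* B ⧸ I ^ 2)) := by
    refine ⟨n, ?_⟩
    rw [Ideal.zero_eq_bot, eq_bot_iff]
    have : RingHom.ker (G : P ⧸ 𝔪 ^ n →+* B ⧸ I ^ 2) ≤ 𝔪.map (Ideal.Quotient.mk (𝔪 ^ n)) := by
      intro p hp
      obtain ⟨p, rfl⟩ := Ideal.Quotient.mk_surjective p
      exact Ideal.mem_map_of_mem _ (Ideal.pow_le_self two_ne_zero (hGk p hp))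
    refine (Ideal.pow_right_mono this n).trans ?_
    rw [← Ideal.map_pow, Ideal.map_quotient_self]
  let ψ : B →ₐ[R] P ⧸ 𝔪 ^ n :=
    Algebra.FormallySmooth.liftOfSurjective (Ideal.Quotient.mkₐ R (I ^ 2)) G hGs hGnil
  have hψ : ∀ b, G (ψ b) = Ideal.Quotient.mk _ b := fun b =>
    Algebra.FormallySmooth.liftOfSurjective_apply (Ideal.Quotient.mkₐ R (I ^ 2)) G hGs hGnil b
  -- difference
  let q := Ideal.Quotient.mk (𝔪 ^ n)
  let δ : P → P ⧸ 𝔪 ^ n := fun p => ψ (f p) - q p
  have h2 : ∀ p, δ p ∈ (𝔪 ^ 2).map q := by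
    intro p
    obtain ⟨p', hp'⟩ := Ideal.Quotient.mk_surjective (δ p)
    rw [← hp']
    apply Ideal.mem_map_of_mem
    apply hGk
    rw [hp']
    change G (ψ (f p) - q p) = 0
    rw [map_sub, hψ]
    change Ideal.Quotient.mk _ (f p) - F p = 0
    exact sub_self _
  have hd : ∀ d : ℕ, ∀ p ∈ 𝔪 ^ (d + 1), δ p ∈ (𝔪 ^ (d + 2)).map q := by
    intro d
    induction d with
    | zero => intro p _; exact h2 p
    | succ d ih =>
      intro p hp
      rw [pow_succ] at hp
      induction hp using Submodule.mul_induction_on' with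
      | mem_mul_mem a ha b hb =>
        have e : δ (a * b) = δ a * ψ (f b) + q a * δ b := by
          simp only [δ, map_mul]; ring
        rw [e]
        refine add_mem ?_ ?_
        · have hfb : ψ (f b) ∈ 𝔪.map q := by
            have h3 : ψ (f b) = δ b + q b := by simp [δ]
            rw [h3]
            exact add_mem (Ideal.map_mono (Ideal.pow_le_self two_ne_zero) (h2 b))
              (Ideal.mem_map_of_mem _ hb)
          have := Ideal.mul_mem_mul (ih a ha) hfb
          rw [← Ideal.map_mul, ← pow_succ] at this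
          exact this
        · have := Ideal.mul_mem_mul (Ideal.mem_map_of_mem q ha) (h2 b)
          rw [← Ideal.map_mul, ← pow_add] at this
          exact this
      | add x _ y _ hx hy =>
        have e : δ (x + y) = δ x + δ y := by simp only [δ, map_add]; ring
        rw [e]
        exact add_mem hx hy
  -- `ψ` maps `I` to the image of `𝔪`
  have hψI : ∀ b ∈ I, ψ b ∈ 𝔪.map q := by
    intro b hb
    obtain ⟨p', hp'⟩ := Ideal.Quotient.mk_surjective (ψ b)
    rw [← hp']
    apply Ideal.mem_map_of_mem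
    apply hinj1
    have h3 : Ideal.Quotient.mk (I ^ 2) (f p') = Ideal.Quotient.mk (I ^ 2) b := by
      rw [← hψ b, ← hp']
      rfl
    have h4 := Ideal.Quotient.eq.1 h3
    have h5 : f p' = (f p' - b) + b := by ring
    rw [h5]
    exact add_mem (Ideal.pow_le_self two_ne_zero h4) hb
  have hψ0 : ψ (f p) = 0 := by
    have h3 : (I ^ n).map ψ ≤ (𝔪.map q) ^ n := by
      rw [Ideal.map_pow]
      exact Ideal.pow_right_mono (Ideal.map_le_iff_le_comap.2 hψI) n
    have h4 := h3 (Ideal.mem_map_of_mem ψ hp)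
    rw [← Ideal.map_pow, Ideal.map_quotient_self] at h4
    exact h4
  -- conclusion
  have key : ∀ d : ℕ, d + 1 ≤ n → p ∈ 𝔪 ^ (d + 1) := by
    intro d
    induction d with
    | zero =>
      intro _
      rw [zero_add, pow_one]
      apply hinj1
      exact Ideal.pow_le_self (by omega) hp
    | succ d ih =>
      intro hdn
      have h3 := hd d p (ih (by omega))
      have h4 : δ p = q (-p) := by simp only [δ, hψ0, zero_sub, map_neg]
      rw [h4, Ideal.mem_quotient_iff_mem_sup, sup_eq_left.2 (Ideal.pow_le_pow_right hdn)] at h3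
      exact neg_mem_iff.1 h3
  obtain ⟨m, rfl⟩ : ∃ m, n = m + 1 := ⟨n - 1, by omega⟩
  exact key m le_rfl

end Ker

section Surj

variable {R : Type*} [CommRing R] {P : Type*} [CommRing P] [Algebra R P]
  {B : Type*} [CommRing B] [Algebra R B]

/-- An algebra map which is surjective modulo `I²`, and which maps `𝔪` onto `I / I²`, is surjective modulo all
powers of `I`. -/
theorem exists_sub_mem_pow (f : P →ₐ[R] B) (𝔪 : Ideal P) (I : Ideal B)
    (hsurj0 : ∀ b : B, ∃ p : P, f p - b ∈ I) (hsurj : ∀ b ∈ I, ∃ p ∈ 𝔪, f p - b ∈ I ^ 2)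
    (hle : ∀ p ∈ 𝔪, f p ∈ I) (n : ℕ) (b : B) : ∃ p : P, f p - b ∈ I ^ n := by
  have hlen : ∀ (k : ℕ), ∀ p ∈ 𝔪 ^ k, f p ∈ I ^ k := by
    intro k p hp
    have : (𝔪 ^ k).map f ≤ I ^ k := by
      rw [Ideal.map_pow]
      exact Ideal.pow_right_mono (Ideal.map_le_iff_le_comap.2 hle) k
    exact this (Ideal.mem_map_of_mem f hp)
  have step : ∀ k : ℕ, ∀ b ∈ I ^ (k + 1), ∃ p ∈ 𝔪 ^ (k + 1), f p - b ∈ I ^ (k + 2) := by
    intro k
    induction k with
    | zero =>
      intro b hb
      rw [zero_add, pow_one] at hb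
      obtain ⟨p, hp, h⟩ := hsurj b hb
      exact ⟨p, by simpa using hp, by simpa using h⟩
    | succ k ih =>
      intro b hb
      rw [pow_succ] at hb
      induction hb using Submodule.mul_induction_on' with
      | mem_mul_mem a ha c hc =>
        obtain ⟨p, hp, h1⟩ := ih a ha
        obtain ⟨p', hp', h2⟩ := hsurj c hc
        refine ⟨p * p', by rw [pow_succ]; exact Ideal.mul_mem_mul hp hp', ?_⟩
        have e : f (p * p') - a * c = (f p - a) * f p' + a * (f p' - c) := by
          rw [map_mul]; ring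
        rw [e]
        refine add_mem ?_ ?_
        · have h3 := Ideal.mul_mem_mul h1 (hle p' hp')
          rw [← pow_succ] at h3
          exact h3
        · have h3 := Ideal.mul_mem_mul ha h2
          rw [← pow_add] at h3
          exact h3
      | add x _ y _ hx hy =>
        obtain ⟨p, hp, h1⟩ := hx
        obtain ⟨p', hp', h2⟩ := hy
        refine ⟨p + p', add_mem hp hp', ?_⟩
        have e : f (p + p') - (x + y) = (f p - x) + (f p' - y) := by rw [map_add]; ring
        rw [e]
        exact add_mem h1 h2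
  induction n with
  | zero => exact ⟨0, by simp⟩
  | succ n ih =>
    rcases n with _ | n
    · simpa using hsurj0 b
    · obtain ⟨p, hp⟩ := ih
      obtain ⟨p', hp', h⟩ := step n _ hp
      refine ⟨p - p', ?_⟩
      have e : f (p - p') - b = -(f p' - (f p - b)) := by rw [map_sub]; ring
      rw [e]
      exact neg_mem h

end Surj

section Free

open MvPolynomial

/-- The quotient of a polynomial ring by a power of the ideal of the variables is finite free. -/
theorem free_mvPolynomial_quotient (R : Type*) [CommRing R] (ι : Type*) [Finite ι] (n : ℕ) :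
    Module.Free R (MvPolynomial ι R ⧸ (idealOfVars ι R) ^ n) ∧
      Module.Finite R (MvPolynomial ι R ⧸ (idealOfVars ι R) ^ n) := by
  classical
  let J : Ideal (MvPolynomial ι R) := (idealOfVars ι R) ^ n
  let D := {x : ι →₀ ℕ // Finsupp.degree x < n}
  have hfin : Finite D := by
    have := Fintype.ofFinite ι
    let g : D → (ι → Fin (n + 1)) := fun x i => ⟨x.1 i, by
      have h1 := Finsupp.le_degree i x.1
      have h2 := x.2
      omega⟩
    refine Finite.of_injective g ?_
    intro x y h
    apply Subtype.ext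
    ext i
    have := congr((($h) i).1)
    exact this
  -- the linear map `P → (D → R)` of coefficients
  let c : MvPolynomial ι R →ₗ[R] (D → R) := LinearMap.pi fun x => lcoeff R x.1
  have hc : ∀ p x, c p x = coeff x.1 p := fun p x => rfl
  have hker : ∀ p, c p = 0 ↔ p ∈ J := by
    intro p
    rw [mem_pow_idealOfVars_iff']
    constructor
    · intro h x hx
      exact congrFun h ⟨x, hx⟩
    · intro h
      funext x
      exact h x.1 x.2
  have hsurj : Function.Surjective c := by
    have := Fintype.ofFinite D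
    intro v
    refine ⟨∑ x : D, monomial x.1 (v x), ?_⟩
    funext y
    rw [hc, coeff_sum, Finset.sum_eq_single y]
    · simp
    · intro x _ hx
      rw [coeff_monomial, if_neg (fun h => hx (Subtype.ext h))]
    · simp
  let c' : (MvPolynomial ι R ⧸ J) →ₗ[R] (D → R) :=
    (J.restrictScalars R).liftQ c (fun p hp => (hker p).2 hp)
  have hc' : Function.Bijective c' := by
    constructor
    · rw [injective_iff_map_eq_zero]
      intro p hp
      obtain ⟨p, rfl⟩ := Ideal.Quotient.mk_surjective p
      have : c p = 0 := hp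
      rw [Ideal.Quotient.eq_zero_iff_mem]
      exact (hker p).1 this
    · intro v
      obtain ⟨p, hp⟩ := hsurj v
      exact ⟨Ideal.Quotient.mk _ p, hp⟩
  let e := LinearEquiv.ofBijective c' hc'
  exact ⟨Module.Free.of_equiv e.symm, Module.Finite.equiv e.symm⟩

variable {R B : Type u} [CommRing R] [CommRing B] [Algebra R B]

/-- The infinitesimal neighbourhoods of a section with finite free conormal module of a formally smooth algebra
are finite free. -/
theorem free_pow_of_cotangent [Algebra.FormallySmooth R B] (ε : B →ₐ[R] R)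
    [Module.Free R (RingHom.ker ε).Cotangent] [Module.Finite R (RingHom.ker ε).Cotangent] (n : ℕ) :
    Module.Free R (B ⧸ (RingHom.ker ε) ^ n) ∧ Module.Finite R (B ⧸ (RingHom.ker ε) ^ n) := by
  classical
  rcases subsingleton_or_nontrivial R with hR | hR
  · have : Subsingleton (B ⧸ (RingHom.ker ε) ^ n) := Module.subsingleton R _
    exact ⟨inferInstance, inferInstance⟩
  set I := RingHom.ker ε with hI
  let ι := Module.Free.ChooseBasisIndex R I.Cotangent
  let c : Module.Basis ι R I.Cotangent := Module.Free.chooseBasis R I.Cotangent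
  have hι : Finite ι := inferInstance
  have := Fintype.ofFinite ι
  choose x hx using fun i => I.toCotangent_surjective (c i)
  let f : MvPolynomial ι R →ₐ[R] B := aeval (fun i => (x i : B))
  let 𝔪 := idealOfVars ι R
  have hfX : ∀ i, f (X i) = x i := fun i => aeval_X _ i
  have hle : ∀ p ∈ 𝔪, f p ∈ I := by
    intro p hp
    have : 𝔪 ≤ I.comap f := by
      rw [Ideal.span_le]
      rintro _ ⟨i, rfl⟩
      change f (X i) ∈ I
      rw [hfX]
      exact (x i).2
    exact this hp
  have hcoef : ∀ p : MvPolynomial ι R, p - C (constantCoeff p) ∈ 𝔪 := by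
    intro p
    have h1 := mem_pow_idealOfVars_iff' (σ := ι) (R := R) 1 (p - C (constantCoeff p))
    rw [pow_one] at h1
    rw [h1]
    intro y hy
    have hy0 : y = 0 := by
      have : Finsupp.degree y = 0 := by omega
      exact (Finsupp.degree_eq_zero_iff y).1 this
    subst hy0
    simp [constantCoeff_eq]
  have hεf : ∀ p : MvPolynomial ι R, ε (f p) = constantCoeff p := by
    intro p
    have h1 : f p = f (p - C (constantCoeff p)) + f (C (constantCoeff p)) := by
      rw [← map_add, sub_add_cancel]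
    have h2 : ε (f (p - C (constantCoeff p))) = 0 := hle _ (hcoef p)
    rw [h1, map_add, h2, zero_add]
    have h3 : f (C (constantCoeff p)) = algebraMap R B (constantCoeff p) := by
      rw [← MvPolynomial.algebraMap_eq, f.commutes]
    rw [h3, ε.commutes]
    rfl
  have hinj1 : ∀ p : MvPolynomial ι R, f p ∈ I → p ∈ 𝔪 := by
    intro p hp
    have h1 : constantCoeff p = 0 := by rw [← hεf]; exact hp
    have h2 := hcoef p
    rwa [h1, map_zero, sub_zero] at h2
  have hsurj0 : ∀ b : B, ∃ p : MvPolynomial ι R, f p - b ∈ I := by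
    intro b
    refine ⟨C (ε b), ?_⟩
    have h3 : f (C (ε b)) = algebraMap R B (ε b) := by
      rw [← MvPolynomial.algebraMap_eq, f.commutes]
    rw [h3]
    change ε _ = 0
    rw [map_sub, ε.commutes]
    exact sub_self _
  have hsurj1 : ∀ b ∈ I, ∃ p ∈ 𝔪, f p - b ∈ I ^ 2 := by
    intro b hb
    let v := c.repr (I.toCotangent ⟨b, hb⟩)
    refine ⟨∑ i, C (v i) * X i, ?_, ?_⟩
    · exact Ideal.sum_mem _ fun i _ => Ideal.mul_mem_left _ _ (Ideal.subset_span ⟨i, rfl⟩)
    · have h1 : I.toCotangent (∑ i, v i • x i) = I.toCotangent ⟨b, hb⟩ := by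
        rw [map_sum]
        have h2 : ∀ i, I.toCotangent (v i • x i) = v i • c i := by
          intro i
          rw [← hx i]
          exact (I.toCotangent.restrictScalars R).map_smul (v i) (x i)
        simp_rw [h2]
        exact c.sum_repr _
      rw [Ideal.toCotangent_eq] at h1
      have h3 : f (∑ i, C (v i) * X i) = ((∑ i, v i • x i : I) : B) := by
        rw [map_sum, AddSubmonoidClass.coe_finsetSum]
        refine Finset.sum_congr rfl fun i _ => ?_
        rw [map_mul, hfX, ← MvPolynomial.algebraMap_eq, f.commutes]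
        simp [Algebra.smul_def]
      rw [h3]
      exact h1
  have hsurj : ∀ b : B, ∃ p : MvPolynomial ι R, f p - b ∈ I ^ 2 := exists_sub_mem_pow f 𝔪 I hsurj0 hsurj1 hle 2
  have hinj : ∀ p : MvPolynomial ι R, f p ∈ I ^ 2 → p ∈ 𝔪 ^ 2 := by
    intro p hp
    have hp1 : p ∈ 𝔪 := hinj1 p (Ideal.pow_le_self two_ne_zero hp)
    -- linear part
    have hlin : ∃ v : ι → R, p - ∑ i, C (v i) * X i ∈ 𝔪 ^ 2 := by
      refine ⟨fun i => coeff (Finsupp.single i 1) p, ?_⟩
      rw [mem_pow_idealOfVars_iff']
      intro y hy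
      have h0 : coeff 0 p = 0 := by
        have h1 := (mem_pow_idealOfVars_iff' (σ := ι) (R := R) 1 p)
        rw [pow_one] at h1
        exact h1.1 hp1 0 (by simp)
      rcases Nat.lt_or_ge (Finsupp.degree y) 1 with hy1 | hy1
      · have hy0 : y = 0 := by
          have : Finsupp.degree y = 0 := by omega
          exact (Finsupp.degree_eq_zero_iff y).1 this
        subst hy0
        rw [coeff_sub, h0, zero_sub, neg_eq_zero, coeff_sum]
        refine Finset.sum_eq_zero fun i _ => ?_
        simp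
      · have hy2 : Finsupp.degree y = 1 := by omega
        obtain ⟨j, rfl⟩ : ∃ j, y = Finsupp.single j 1 := by
          have h4 : y ≠ 0 := by
            rintro rfl
            simp at hy2
          obtain ⟨j, hj⟩ := Finsupp.ne_iff.1 h4
          refine ⟨j, ?_⟩
          have hj' : 1 ≤ y j := Nat.one_le_iff_ne_zero.2 hj
          have h5 : Finsupp.single j 1 ≤ y := by
            rw [Finsupp.single_le_iff]
            exact hj'
          obtain ⟨z, rfl⟩ := exists_add_of_le h5
          rw [map_add] at hy2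
          have h6 : Finsupp.degree z = 0 := by
            have : Finsupp.degree (Finsupp.single j 1) = 1 := by simp
            omega
          rw [(Finsupp.degree_eq_zero_iff z).1 h6, add_zero]
        rw [coeff_sub, coeff_sum, Finset.sum_eq_single j]
        · simp [coeff_C_mul]
        · intro i _ hij
          rw [coeff_C_mul, coeff_X, if_neg, mul_zero]
          intro h
          exact hij (Finsupp.single_left_injective one_ne_zero h)
        · simp
    obtain ⟨v, hv⟩ := hlin
    have h1 : f (p - ∑ i, C (v i) * X i) ∈ I ^ 2 := by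
      have : (𝔪 ^ 2).map f ≤ I ^ 2 := by
        rw [Ideal.map_pow]
        exact Ideal.pow_right_mono (Ideal.map_le_iff_le_comap.2 hle) 2
      exact this (Ideal.mem_map_of_mem f hv)
    have h2 : f (∑ i, C (v i) * X i) ∈ I ^ 2 := by
      have e : f (∑ i, C (v i) * X i) = f p - f (p - ∑ i, C (v i) * X i) := by
        rw [← map_sub]
        congr 1
        ring
      rw [e]
      exact sub_mem hp h1
    have h3 : f (∑ i, C (v i) * X i) = ((∑ i, v i • x i : I) : B) := by
      rw [map_sum, AddSubmonoidClass.coe_finsetSum]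
      refine Finset.sum_congr rfl fun i _ => ?_
      rw [map_mul, hfX, ← MvPolynomial.algebraMap_eq, f.commutes]
      simp [Algebra.smul_def]
    rw [h3] at h2
    have h4 : I.toCotangent (∑ i, v i • x i) = 0 := (Ideal.toCotangent_eq_zero I _).2 h2
    rw [map_sum] at h4
    have h5 : ∀ i, I.toCotangent (v i • x i) = v i • c i := by
      intro i
      rw [← hx i]
      exact (I.toCotangent.restrictScalars R).map_smul (v i) (x i)
    simp_rw [h5] at h4
    have h6 : ∀ i, v i = 0 := Fintype.linearIndependent_iff.1 c.linearIndependent v h4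
    simpa [h6] using hv
  -- the isomorphism
  have hfn : ∀ p ∈ 𝔪 ^ n, f p ∈ I ^ n := by
    intro p hp
    have : (𝔪 ^ n).map f ≤ I ^ n := by
      rw [Ideal.map_pow]
      exact Ideal.pow_right_mono (Ideal.map_le_iff_le_comap.2 hle) n
    exact this (Ideal.mem_map_of_mem f hp)
  let g : (MvPolynomial ι R ⧸ 𝔪 ^ n) →ₐ[R] (B ⧸ I ^ n) :=
    Ideal.Quotient.liftₐ (𝔪 ^ n) ((Ideal.Quotient.mkₐ R (I ^ n)).comp f) (fun a ha =>
      Ideal.Quotient.eq_zero_iff_mem.2 (hfn a ha))
  have hg : Function.Bijective g := by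
    constructor
    · rw [injective_iff_map_eq_zero]
      intro p hp
      obtain ⟨p, rfl⟩ := Ideal.Quotient.mk_surjective p
      have h1 : Ideal.Quotient.mk (I ^ n) (f p) = 0 := hp
      rw [Ideal.Quotient.eq_zero_iff_mem] at h1 ⊢
      exact mem_pow_of_map_mem_pow f 𝔪 I hsurj hinj hinj1 hle n p h1
    · intro b
      obtain ⟨b, rfl⟩ := Ideal.Quotient.mk_surjective b
      obtain ⟨p, hp⟩ := exists_sub_mem_pow f 𝔪 I hsurj0 hsurj1 hle n b
      exact ⟨Ideal.Quotient.mk _ p, Ideal.Quotient.eq.2 hp⟩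
  obtain ⟨h1, h2⟩ := free_mvPolynomial_quotient R ι n
  let e : (MvPolynomial ι R ⧸ 𝔪 ^ n) ≃ₗ[R] (B ⧸ I ^ n) := (AlgEquiv.ofBijective g hg).toLinearEquiv
  exact ⟨Module.Free.of_equiv e, Module.Finite.equiv e⟩

/-- All infinitesimal neighbourhoods of a section of a standard smooth algebra are finite free. -/
theorem free_pow [Algebra.IsStandardSmooth R B] (ε : B →ₐ[R] R) (n : ℕ) :
    Module.Free R (B ⧸ (RingHom.ker ε) ^ n) ∧ Module.Finite R (B ⧸ (RingHom.ker ε) ^ n) := by
  obtain ⟨_, _⟩ := Sga3B.FreeNbhd.free_cotangent ε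
  exact free_pow_of_cotangent ε n

end Free

end Groth.Agent.Sga3.H813.FreePow
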