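import Groth.Agent.Sga3.H830.FibAff
import Groth.Agent.Sga3.H796.Orbit
import Groth.Agent.Sga3.H816.AffFibStage
import Groth.Agent.Sga3B.TorusEtSplit

/-!
# The fibres of the scheme of frames are affine

`P = Orbit.P hH φ hn` the open subscheme of frames of `Hom(Γ, G)`: its fibres are affine if the fibres of `G` are
connected (`isAffine_fibre_P`), hence those of its quotients by finite surjective morphisms (`isAffine_fibre_M`).
-/

set_option autoImplicit false
universe u
open CategoryTheory MonoidalCategory CartesianMonoidalCategory MonObj GrpObj AlgebraicGeometry Limits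

namespace Groth.Agent.Sga3.H813.PFib

open Groth.Agent.Sga3B Groth.Agent.Sga3B.BcPts Groth.Agent.Sga3.H796.AbsRep Groth.Agent.Sga3.H796.Frame
  Groth.Agent.Sga3.H797 Groth.Agent.Sga3.H797.HomFin Groth.Agent.Sga3.H796.Orbit
  Groth.Agent.Sga3.H830.FibAff

variable {S : Scheme.{u}} {G H : Over S} [GrpObj G] {Γ : Type*} [Group Γ] [Finite Γ] {υ : Γ →* (H ⟶ G)}
  [Smooth G.hom] [LocallyOfFinitePresentation H.hom] (hH : IsHomScheme G Γ H υ) (hn : Inv (Nat.card Γ) S)
  {Y : Over S} [Etale Y.hom] (φ : Γ →* (Y ⟶ G))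

/-- `P` is stable under conjugation. -/
theorem mem_of_conj {Z : Over S} (x y : Z ⟶ H) (g : Z ⟶ G) (h : ∀ γ, y ≫ υ γ = g * (x ≫ υ γ) * g⁻¹) (t : Z.left)
    (ht : x.left t ∈ PO hH φ hn) : y.left t ∈ PO hH φ hn := by
  refine mem_of_loc hH φ hn y t ((loc_of_mem hH φ hn x t ht).mono ?_)
  rintro X' f ⟨a, g', α, hα⟩
  refine ⟨a, (f ≫ g) * g', α, fun γ => ?_⟩
  rw [h, MonObj.comp_mul, MonObj.comp_mul, hα, GrpObj.comp_inv, _root_.mul_inv_rev]
  simp only [_root_.mul_assoc]

variable {k : Type u} [Field k] (f : Spec (CommRingCat.of k) ⟶ S)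

/-- The base change of the inclusion of `P`. -/
noncomputable abbrev jbc : Red.bc f (P hH φ hn) ⟶ Red.bc f H := (Over.pullback f).map (jP hH φ hn)

instance : IsOpenImmersion (jbc hH hn φ f).left :=
  MorphismProperty.of_isPullback (TorusEtSplit.isPullback_map f (jP hH φ hn)) inferInstance

theorem isAffine_fibre_P [QuasiCompact G.hom] [ConnectedSpace (Red.bc f G).left] :
    IsAffine (Red.bc f (P hH φ hn)).left := by
  have : LocallyOfFinitePresentation (Red.bc f H).hom :=
    inferInstanceAs (LocallyOfFinitePresentation (pullback.snd H.hom f))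
  have : Smooth (Red.bc f G).hom := inferInstanceAs (Smooth (pullback.snd G.hom f))
  have : QuasiCompact (Red.bc f G).hom := inferInstanceAs (QuasiCompact (pullback.snd G.hom f))
  have hk : (Nat.card Γ : k) ≠ 0 := (hn.of_hom f).isUnit.ne_zero
  refine isAffine_of_stable (isHomScheme_bc f hH) hk (jbc hH hn φ f) ?_
  intro Z x y g hg hx
  obtain ⟨x', hx'⟩ : ∃ x' : Z ⟶ Red.bc f (P hH φ hn), x' ≫ jbc hH hn φ f = x := by
    have h1 := IsOpenImmersion.lift_fac (jbc hH hn φ f).left x.left hx
    refine ⟨Over.homMk (IsOpenImmersion.lift (jbc hH hn φ f).left x.left hx) ?_, Over.OverMorphism.ext h1⟩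
    rw [← Over.w (jbc hH hn φ f), ← Category.assoc, h1, Over.w]
  have h2 : (bcEquiv f Z (P hH φ hn)).symm x' ≫ jP hH φ hn = (bcEquiv f Z H).symm x := by
    rw [← bcEquiv_symm_comp, hx']
  have h3 : ∀ t, ((bcEquiv f Z H).symm y).left t ∈ PO hH φ hn := by
    intro t
    refine mem_of_conj hH hn φ ((bcEquiv f Z H).symm x) _ ((bcMulEquiv f Z G).symm g) ?_ t ?_
    · intro γ
      have h4 := congrArg (bcMulEquiv f Z G).symm (hg γ)
      rw [map_mul, map_mul, map_inv] at h4
      have h5 : ∀ z : Z ⟶ Red.bc f H, (bcMulEquiv f Z G).symm (z ≫ bcHom f υ γ) = (bcEquiv f Z H).symm z ≫ υ γ :=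
        fun z => bcEquiv_symm_comp f z (υ γ)
      rwa [h5, h5] at h4
    · rw [← h2]
      exact comp_jP_mem hH φ hn _ t
  obtain ⟨y', hy'⟩ := exists_lift_P hH φ hn _ h3
  have h6 : bcEquiv f Z _ y' ≫ jbc hH hn φ f = y := by
    rw [← bcEquiv_comp, hy', Equiv.apply_symm_apply]
  rw [← h6]
  rintro _ ⟨t, rfl⟩
  rw [Over.comp_left, Scheme.Hom.comp_apply]
  exact ⟨_, rfl⟩

theorem isAffine_fibre_M [QuasiCompact G.hom] [ConnectedSpace (Red.bc f G).left] {M : Over S}
    (p : P hH φ hn ⟶ M) [IsFinite p.left] [Surjective p.left] : IsAffine (Red.bc f M).left := by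
  have h1 := isAffine_fibre_P hH hn φ f
  let q : Red.bc f (P hH φ hn) ⟶ Red.bc f M := (Over.pullback f).map p
  have hq := TorusEtSplit.isPullback_map f p
  have : Surjective q.left := MorphismProperty.of_isPullback hq inferInstance
  have : IsFinite q.left := MorphismProperty.of_isPullback hq inferInstance
  exact isAffine_of_surjective q

/-- Affineness of fibres descends. -/
theorem fib_of_cover {M : Over S} {S' : Scheme.{u}} (q : S' ⟶ S) [Surjective q]
    (h : ∀ s' : S', IsAffine (pullback (pullback.snd M.hom q) (S'.fromSpecResidueField s'))) (s : S) :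
    IsAffine (pullback M.hom (S.fromSpecResidueField s)) := by
  have h1 : H816.AffFibStage.Fib (pullback.snd M.hom q) := h
  rw [H816.AffFibStage.fib_iff_of_isPullback (IsPullback.of_hasPullback _ _)] at h1
  obtain ⟨s', rfl⟩ := q.surjective s
  exact (H816.AffFibStage.mem_locus_iff _ _).1 (h1 s')

end Groth.Agent.Sga3.H813.PFib
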