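import Groth.Agent.Sga3.H778.NeutralPts
import Groth.Agent.Sga3.H798.MaxTorCent
import Groth.Agent.Sga3B.TorusIrr
import Groth.Agent.Sga3B.AdAff
import Groth.Agent.Sga3B.Parab.EtHom
import Groth.Prelude.Def_SGA3x

/-!
# Maximal tori of a group scheme and of its open neutral component

`u : G0 ⟶ G` an open subgroup scheme with underlying set `G⁰ = SGA3x.neutralSet G`.

* `exists_factor`: homomorphisms from tori to base changes of `G` factor through `G0`;
* `isMaximalTorus_comp_iff`: maximal tori of `G0` are maximal tori of `G`;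
* `hasMaxTorusFpqcLocally`, `hasMaxTorusEtaleLocally_of`, `representsMaxTori_of`.
-/

set_option autoImplicit false

universe u

open CategoryTheory MonoidalCategory CartesianMonoidalCategory MonObj GrpObj AlgebraicGeometry Limits

namespace Groth.Agent.Sga3.H813.NeutralTor

open Groth.Agent.Sga3B Groth.Agent.Sga3B.Parab

variable {S : Scheme.{u}} {G G0 : Over S} [GrpObj G] [GrpObj G0] (u : G0 ⟶ G)

section lifts

omit [GrpObj G] [GrpObj G0] in
lemma exists_lift {X : Scheme.{u}} [IsOpenImmersion u.left] (α : X ⟶ G.left)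
    (h : Set.range α ⊆ Set.range u.left) : ∃ β : X ⟶ G0.left, β ≫ u.left = α :=
  ⟨IsOpenImmersion.lift u.left α h, IsOpenImmersion.lift_fac _ _ _⟩

omit [GrpObj G] [GrpObj G0] in
lemma exists_lift_bc {X : Scheme.{u}} [IsOpenImmersion u.left] {f : X ⟶ S} {T : Over X}
    (i : T ⟶ Red.bc f G) (h : Set.range (i.left ≫ pullback.fst G.hom f) ⊆ Set.range u.left) :
    ∃ j : T ⟶ Red.bc f G0, j ≫ (Over.pullback f).map u = i := by
  obtain ⟨β, hβ⟩ := exists_lift u _ h
  have h1 : i.left ≫ pullback.snd G.hom f = T.hom := Over.w i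
  have h2 : β ≫ G0.hom = T.hom ≫ f := by
    rw [← Over.w u, ← Category.assoc, hβ, Category.assoc, pullback.condition, ← Category.assoc, h1]
  refine ⟨Over.homMk (pullback.lift β T.hom h2) (pullback.lift_snd _ _ _), ?_⟩
  ext1
  apply pullback.hom_ext
  · have h3 : ((Over.pullback f).map u).left ≫ pullback.fst G.hom f = pullback.fst G0.hom f ≫ u.left :=
      (EtHom.isPullback_map f u).w.symm
    rw [Over.comp_left, Category.assoc, h3, ← Category.assoc]
    change (pullback.lift β T.hom h2 ≫ pullback.fst G0.hom f) ≫ u.left = _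
    rw [pullback.lift_fst, hβ]
  · rw [h1]
    exact Over.w _

end lifts

/-- The unit of a group over `X`, followed by a homomorphism to `bc f G`. -/
lemma range_subset {X : Scheme.{u}} {T : Over X} [GrpObj T] (hT : Red.IsTorus T) {f : X ⟶ S}
    (α : T.left ⟶ G.left) (hα : α ≫ G.hom = T.hom ≫ f)
    (hα' : (η[T] : 𝟙_ (Over X) ⟶ T).left ≫ α = f ≫ (η[G] : 𝟙_ (Over S) ⟶ G).left) :
    Set.range α ⊆ SGA3x.neutralSet G := by
  have := TorusAlgClosed.smooth_of_isTorus hT
  have := TorusIrr.geometricallyIrreducible_of_isTorus hT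
  rintro _ ⟨t, rfl⟩
  let π : T.left ⟶ X := T.hom
  let e : X ⟶ T.left := (η[T] : 𝟙_ (Over X) ⟶ T).left
  have he : ∀ y, π (e y) = y := fun y => by
    rw [← Scheme.Hom.comp_apply, show e ≫ π = 𝟙 X from Over.w η[T]]
    rfl
  have hirr : _root_.IsIrreducible (π ⁻¹' {π t}) :=
    Scheme.Hom.isIrreducible_preimage (f := π) π.isOpenMap isIrreducible_singleton
  have hα1 : ∀ y, G.hom (α y) = f (π y) := fun y => by
    rw [← Scheme.Hom.comp_apply, hα, Scheme.Hom.comp_apply]
  have hpre : _root_.IsPreconnected (α '' (π ⁻¹' {π t})) :=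
    hirr.isConnected.isPreconnected.image _ α.continuous.continuousOn
  refine Set.mem_iUnion.mpr ⟨(f (π t) : S), ?_⟩
  have h1 : α (e (π t)) = (η[G] : 𝟙_ (Over S) ⟶ G).left (f (π t)) := by
    rw [← Scheme.Hom.comp_apply, hα', Scheme.Hom.comp_apply]
  have h2 : α '' (π ⁻¹' {π t}) ⊆ connectedComponentIn (G.hom ⁻¹' {f (π t)}) (α (e (π t))) := by
    refine hpre.subset_connectedComponentIn ⟨_, he (π t), rfl⟩ ?_
    rintro _ ⟨y, hy, rfl⟩
    change G.hom (α y) = f (π t)
    rw [hα1]
    exact congrArg f hy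
  rw [h1] at h2
  exact h2 ⟨t, rfl, rfl⟩

variable (hu : Set.range u.left = SGA3x.neutralSet G)

omit [GrpObj G0] in
include hu in
/-- Homomorphisms from tori factor through the neutral component. -/
theorem exists_factor [IsOpenImmersion u.left] {X : Scheme.{u}} {f : X ⟶ S} {T : Over X} [GrpObj T]
    (hT : Red.IsTorus T) (i : T ⟶ Red.bc f G) [IsMonHom i] :
    ∃ j : T ⟶ Red.bc f G0, j ≫ (Over.pullback f).map u = i := by
  refine exists_lift_bc u i ?_
  rw [hu]
  have h1 : i.left ≫ pullback.snd G.hom f = T.hom := Over.w i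
  refine range_subset (f := f) hT _ ?_ ?_
  · rw [Category.assoc, pullback.condition, ← Category.assoc, h1]
  · rw [← Category.assoc, ← Over.comp_left, IsMonHom.one_hom]
    exact AdAff.unit_bc f G

omit [GrpObj G0] in
include hu in
/-- Homomorphisms from tori to iterated base changes factor through the neutral component. -/
theorem exists_factor₂ [IsOpenImmersion u.left] {X Y : Scheme.{u}} {f : X ⟶ S} {g : Y ⟶ X} {T : Over Y}
    [GrpObj T] (hT : Red.IsTorus T) (i : T ⟶ Red.bc g (Red.bc f G)) [IsMonHom i] :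
    ∃ j : T ⟶ Red.bc g (Red.bc f G0), j ≫ (Over.pullback g).map ((Over.pullback f).map u) = i := by
  have hop : IsOpenImmersion ((Over.pullback f).map u).left :=
    MorphismProperty.of_isPullback (EtHom.isPullback_map f u) inferInstance
  refine exists_lift_bc ((Over.pullback f).map u) i ?_
  have h1 : i.left ≫ pullback.snd (Red.bc f G).hom g = T.hom := Over.w i
  have h3 : Set.range ((i.left ≫ pullback.fst (Red.bc f G).hom g) ≫ pullback.fst G.hom f) ⊆
      SGA3x.neutralSet G := by
    refine range_subset (f := g ≫ f) hT _ ?_ ?_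
    · have h4 : pullback.fst (Red.bc f G).hom g ≫ pullback.snd G.hom f =
          pullback.snd (Red.bc f G).hom g ≫ g := pullback.condition
      rw [Category.assoc, Category.assoc, pullback.condition, ← Category.assoc (pullback.fst (Red.bc f G).hom g),
        h4, Category.assoc, ← Category.assoc, h1]
    · have h4 := AdAff.unit_bc g (Red.bc f G)
      have h5 := AdAff.unit_bc f G
      rw [← Category.assoc, ← Category.assoc, ← Over.comp_left, IsMonHom.one_hom, Category.assoc g, ← h5,
        ← Category.assoc g]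
      exact congrArg (· ≫ pullback.fst G.hom f) h4
  rw [← hu] at h3
  rintro _ ⟨t, rfl⟩
  obtain ⟨z, hz⟩ := h3 ⟨t, rfl⟩
  obtain ⟨w, -, hw⟩ := Scheme.exists_preimage_of_isPullback (EtHom.isPullback_map f u) z _ hz
  exact ⟨w, hw⟩

include hu in
/-- Maximal tori of `G⁰` are maximal tori of `G`. -/
theorem isMaximalTorus_comp [IsOpenImmersion u.left] [IsMonHom u] {X : Scheme.{u}} {f : X ⟶ S} {T : Over X}
    [GrpObj T] (j : T ⟶ Red.bc f G0) (hj : Red.IsMaximalTorus j) :
    Red.IsMaximalTorus (j ≫ (Over.pullback f).map u) := by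
  have hmu : Mono u := Over.mono_of_mono_left u
  obtain ⟨h1, h2, h3, h4⟩ := hj
  refine ⟨inferInstance, inferInstance, h3, fun s T' _ j' _ _ f' hT' hf' => ?_⟩
  obtain ⟨j'', hj''⟩ := exists_factor₂ u hu hT' j'
  have h5 : IsMonHom j'' := by
    refine InfConjFam.isMonHom_of_mul _ fun T d d' => ?_
    rw [← cancel_mono ((Over.pullback (Red.geomPt s)).map ((Over.pullback f).map u)), Category.assoc, hj'',
      MonObj.mul_comp, MonObj.mul_comp, Category.assoc, Category.assoc, hj'']
  have h6 : Mono j'' := by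
    have : Mono (j'' ≫ (Over.pullback (Red.geomPt s)).map ((Over.pullback f).map u)) := by
      rw [hj'']; infer_instance
    exact mono_of_mono j'' ((Over.pullback (Red.geomPt s)).map ((Over.pullback f).map u))
  refine h4 s T' j'' f' hT' ?_
  rw [← cancel_mono ((Over.pullback (Red.geomPt s)).map ((Over.pullback f).map u)), Category.assoc, hj'',
    hf', Functor.map_comp]

include hu in
theorem exists_isMaximalTorus [IsOpenImmersion u.left] [IsMonHom u] {X : Scheme.{u}} {f : X ⟶ S} {T : Over X}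
    [GrpObj T] (i : T ⟶ Red.bc f G) (hi : Red.IsMaximalTorus i) :
    ∃ j : T ⟶ Red.bc f G0, j ≫ (Over.pullback f).map u = i ∧ Red.IsMaximalTorus j := by
  have hmu : Mono u := Over.mono_of_mono_left u
  have := hi.1
  obtain ⟨j, hj⟩ := exists_factor u hu hi.2.2.1 i
  refine ⟨j, hj, ?_⟩
  rw [← hj] at hi
  exact H798.MaxTorCent.isMaximalTorus_of_comp j _ hi

include hu in
theorem hasMaxTorusFpqcLocally [IsOpenImmersion u.left] [IsMonHom u] (h : SGA3x.HasMaxTorusFpqcLocally G) :
    SGA3x.HasMaxTorusFpqcLocally G0 := by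
  obtain ⟨S', f, h1, h2, h3, T, _, i, hi⟩ := h
  obtain ⟨j, -, hj⟩ := exists_isMaximalTorus u hu i hi
  exact ⟨S', f, h1, h2, h3, T, inferInstance, j, hj⟩

include hu in
theorem hasMaxTorusEtaleLocally_of [IsOpenImmersion u.left] [IsMonHom u]
    (h : SGA3x.HasMaxTorusEtaleLocally G0) : SGA3x.HasMaxTorusEtaleLocally G := by
  obtain ⟨S', f, h1, h2, T, _, i, hi⟩ := h
  exact ⟨S', f, h1, h2, T, inferInstance, _, isMaximalTorus_comp u hu i hi⟩

include hu in
theorem representsMaxTori_of [IsOpenImmersion u.left] [IsMonHom u] {M : Over S} {Tu : Over M.left}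
    [GrpObj Tu] (iu : Tu ⟶ Red.bc M.hom G0) (h : SGA3x.RepresentsMaxTori G0 M Tu iu) :
    SGA3x.RepresentsMaxTori G M Tu (iu ≫ (Over.pullback M.hom).map u) := by
  have hmu : Mono u := Over.mono_of_mono_left u
  have hmu' : Mono u.left := inferInstance
  refine ⟨isMaximalTorus_comp u hu iu h.1, fun S' f T' _ i' hi' => ?_⟩
  obtain ⟨j, hj, hjm⟩ := exists_isMaximalTorus u hu i' hi'
  have key : ∀ (v : S' ⟶ M.left) (φ : T'.left ≅ (Red.bc v Tu).left),
      (φ.hom ≫ ((Over.pullback v).map (iu ≫ (Over.pullback M.hom).map u)).left ≫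
        pullback.fst (Red.bc M.hom G).hom v ≫ pullback.fst G.hom M.hom = i'.left ≫ pullback.fst G.hom f) ↔
      (φ.hom ≫ ((Over.pullback v).map iu).left ≫ pullback.fst (Red.bc M.hom G0).hom v ≫
        pullback.fst G0.hom M.hom = j.left ≫ pullback.fst G0.hom f) := by
    intro v φ
    have e1 : ((Over.pullback v).map ((Over.pullback M.hom).map u)).left ≫
        pullback.fst (Red.bc M.hom G).hom v = pullback.fst (Red.bc M.hom G0).hom v ≫
          ((Over.pullback M.hom).map u).left := (EtHom.isPullback_map v _).w.symm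
    have e2 : ((Over.pullback M.hom).map u).left ≫ pullback.fst G.hom M.hom =
        pullback.fst G0.hom M.hom ≫ u.left := (EtHom.isPullback_map M.hom u).w.symm
    have e3 : ((Over.pullback f).map u).left ≫ pullback.fst G.hom f =
        pullback.fst G0.hom f ≫ u.left := (EtHom.isPullback_map f u).w.symm
    rw [← hj, Functor.map_comp, Over.comp_left, Over.comp_left, Category.assoc j.left, e3,
      ← cancel_mono u.left]
    simp only [Category.assoc]
    rw [← e2, ← Category.assoc (((Over.pullback v).map ((Over.pullback M.hom).map u)).left), e1]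
    simp only [Category.assoc]
  obtain ⟨v, ⟨hv1, φ, hφ1, hφ2⟩, huniq⟩ := h.2 S' f T' j hjm
  refine ⟨v, ⟨hv1, φ, hφ1, (key v φ).2 hφ2⟩, ?_⟩
  rintro v' ⟨hv1', φ', hφ1', hφ2'⟩
  exact huniq v' ⟨hv1', φ', hφ1', (key v' φ').1 hφ2'⟩

end Groth.Agent.Sga3.H813.NeutralTor
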