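import Groth.Agent.Sga3.H778.NeutralOpen
import Groth.Agent.Sga3.H813.NeutralTor
import Groth.Agent.Sga3C.GrpIrr
import Groth.Agent.S3025

/-!
# The open neutral component of a smooth group scheme is separated with geometrically irreducible fibres
-/

set_option autoImplicit false

universe u

open CategoryTheory MonoidalCategory CartesianMonoidalCategory MonObj GrpObj AlgebraicGeometry Limits

namespace Groth.Agent.Sga3.H813.Neutral

open Groth.Agent.Sga3.H778

variable {S : Scheme.{u}}

/-- The open neutral component. -/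
theorem exists_neutral (G : Over S) [GrpObj G] [Smooth G.hom] :
    ∃ (G0 : Over S) (_ : GrpObj G0) (u : G0 ⟶ G), IsMonHom u ∧ IsOpenImmersion u.left ∧
      Set.range u.left = SGA3x.neutralSet G ∧ Smooth G0.hom ∧ QuasiCompact G0.hom ∧ IsSeparated G0.hom ∧
      GeometricallyIrreducible G0.hom := by
  have hsm : Smooth ((⊤ : G.left.Opens).ι ≫ G.hom) := inferInstance
  have h := NeutralOpen.isOpen_neutralSet G ⊤ (fun _ => trivial)
  obtain ⟨hgrp, hmon⟩ := NeutralOpen.exists_grpObj G h
  have hsm : Smooth (NeutralOpen.opn G (NeutralOpen.neutral G h)).hom :=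
    NeutralOpen.smooth_neutral G ⊤ (fun _ => trivial) h
  have hc := NeutralOpen.isConnected_fibre G h
  obtain ⟨h1, h2⟩ := Groth.Agent.S3025.result S (NeutralOpen.opn G (NeutralOpen.neutral G h)) hc
  refine ⟨_, hgrp, NeutralOpen.opnι G (NeutralOpen.neutral G h), hmon, inferInstance, ?_, hsm, h2, h1, ?_⟩
  · change Set.range (NeutralOpen.neutral G h).ι = _
    rw [Scheme.Opens.range_ι]
    rfl
  · have : GrpObj (Over.mk (NeutralOpen.opn G (NeutralOpen.neutral G h)).hom) := hgrp
    exact Sga3C.GrpIrr.geometricallyIrreducible_of_connected_fibres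
      (NeutralOpen.opn G (NeutralOpen.neutral G h)).hom hc

/-- Geometric fibres of a geometrically irreducible scheme are connected. -/
theorem connectedSpace_bc (G : Over S) [GeometricallyIrreducible G.hom] {K : Type u} [Field K]
    (t : Spec (CommRingCat.of K) ⟶ S) : ConnectedSpace (Red.bc t G).left := by
  have h2 : IrreducibleSpace ↥(pullback G.hom t) :=
    GeometricallyIrreducible.geometrically_irreducibleSpace (f := G.hom) _ _ _ (.of_hasPullback _ _)
  change ConnectedSpace ↥(pullback G.hom t)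
  infer_instance

/-- Reduction of statements on maximal tori to groups with connected fibres. -/
theorem reduction (G : Over S) [GrpObj G] [Smooth G.hom] (hG : SGA3x.HasMaxTorusFpqcLocally G)
    (P : Over S → Prop)
    (H : ∀ (G0 : Over S) [GrpObj G0] [Smooth G0.hom] [QuasiCompact G0.hom] [IsSeparated G0.hom]
      [GeometricallyIrreducible G0.hom], SGA3x.HasMaxTorusFpqcLocally G0 →
        SGA3x.HasMaxTorusEtaleLocally G0 ∧ ∃ (M : Over S) (Tu : Over M.left) (_ : GrpObj Tu)
          (iu : Tu ⟶ Red.bc M.hom G0), SGA3x.RepresentsMaxTori G0 M Tu iu ∧ P M) :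
    SGA3x.HasMaxTorusEtaleLocally G ∧ ∃ (M : Over S) (Tu : Over M.left) (_ : GrpObj Tu)
      (iu : Tu ⟶ Red.bc M.hom G), SGA3x.RepresentsMaxTori G M Tu iu ∧ P M := by
  obtain ⟨G0, _, u, h1, h2, h3, h4, h5, h6, h7⟩ := exists_neutral G
  obtain ⟨h8, M, Tu, _, iu, h9, h10⟩ := H G0 (NeutralTor.hasMaxTorusFpqcLocally u h3 hG)
  exact ⟨NeutralTor.hasMaxTorusEtaleLocally_of u h3 h8, M, Tu, inferInstance, _,
    NeutralTor.representsMaxTori_of u h3 iu h9, h10⟩

end Groth.Agent.Sga3.H813.Neutral
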