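import Groth.Agent.Sga3.H813.QA
import Groth.Agent.Sga3.H813.FreePow
import Groth.Agent.Sga3.H797.HomFin
import Groth.Agent.Sga3B.AdAff
import Groth.Agent.Sga3B.Parab.EtHom

/-!
# Families of torsion points are quasi-affine locally on the base

* `exists_nhd`: `G` smooth separated quasi-compact with connected geometric fibres, `X` with finitely many points of `G`
  killed by an invertible integer: `X` is quasi-affine over a small affine neighbourhood of each point of the base;
* `isQuasiAffine_of_le`: the same over smaller affine opens;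
* `exists_nhd_homScheme`: the case of the scheme of homomorphisms from a finite group to `G`;
* `exists_basicOpen_of_finite`: finite sets of points of a quasi-affine scheme are contained in affine opens.
-/

set_option autoImplicit false

universe u

open CategoryTheory MonoidalCategory CartesianMonoidalCategory AlgebraicGeometry Limits MonObj

namespace Groth.Agent.Sga3.H813.QAChart

open Sga3B Sga3B.FreeBC Sga3B.AdRep Sga3B.BcPts

variable {S : Scheme.{u}} (G : Over S) [GrpObj G]

/-- **Families of torsion points are quasi-affine**, locally on the base. -/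
theorem exists_nhd [Smooth G.hom] [QuasiCompact G.hom] [IsSeparated G.hom]
    (hconn : ∀ (K : Type u) [Field K] [IsAlgClosed K] (t : Spec (CommRingCat.of K) ⟶ S),
      ConnectedSpace (Red.bc t G).left)
    (X : Over S) [LocallyOfFiniteType X.hom] [QuasiCompact X.hom] [IsSeparated X.hom]
    {J : Type*} [Finite J] (x : J → (X ⟶ G)) (N : ℕ) (hN : H797.HomFin.Inv N S) (hx : ∀ i, x i ^ N = 1)
    (hinj : ∀ (K : Type u) [Field K] [IsAlgClosed K] (a b : Spec (CommRingCat.of K) ⟶ X.left),
      a ≫ X.hom = b ≫ X.hom → (∀ i, a ≫ (x i).left = b ≫ (x i).left) → a = b) (s : S) :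
    ∃ (R : Type u) (_ : CommRing R) (q : Spec (CommRingCat.of R) ⟶ S), IsOpenImmersion q ∧
      s ∈ Set.range q ∧ (Red.bc q X).left.IsQuasiAffine := by
  obtain ⟨R, B, _, _, _, q, w, eW, hq, hs, hst, hw, heW⟩ := AdAff.exists_chart G s
  refine ⟨R, inferInstance, q, hq, hs, ?_⟩
  obtain ⟨ε, -, hε⟩ := CentralTorus.exists_augHom eW
  have haug : augIdeal eW = RingHom.ker ε := Ideal.ext hε
  have hfree : ∀ n, Module.Free R (B ⧸ augIdeal eW ^ n) ∧ Module.Finite R (B ⧸ augIdeal eW ^ n) := by
    intro n
    rw [haug]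
    exact FreePow.free_pow ε n
  have h1 : QuasiCompact (Red.bc q G).hom := inferInstanceAs (QuasiCompact (pullback.snd _ _))
  have h2 : IsSeparated (Red.bc q G).hom := inferInstanceAs (IsSeparated (pullback.snd _ _))
  have h3 : LocallyOfFiniteType (Red.bc q G).hom := inferInstanceAs (LocallyOfFiniteType (pullback.snd _ _))
  have h4 : QuasiCompact (Red.bc q X).hom := inferInstanceAs (QuasiCompact (pullback.snd _ _))
  have h5 : IsSeparated (Red.bc q X).hom := inferInstanceAs (IsSeparated (pullback.snd _ _))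
  have h6 : LocallyOfFiniteType (Red.bc q X).hom := inferInstanceAs (LocallyOfFiniteType (pullback.snd _ _))
  refine QA.isQuasiAffine w eW heW (fun n => (hfree n).1) (fun n => (hfree n).2) ?_
    (fun j => (Over.pullback q).map (x j)) N ((hN.of_hom q).isUnit) ?_ ?_
  · intro K _ _ t
    let e : (Red.bc (t ≫ q) G).left ≅ (Red.bc t (Red.bc q G)).left :=
      (Over.forget _).mapIso ((Over.pullbackComp t q).app G)
    have h7 := hconn K (t ≫ q)
    exact (Scheme.homeoOfIso e).surjective.connectedSpace (Scheme.homeoOfIso e).continuous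
  · intro i
    have key : ∀ k : ℕ, (Over.pullback q).map (x i) ^ k = (Over.pullback q).map (x i ^ k) := by
      intro k
      induction k with
      | zero => rw [pow_zero, pow_zero, Functor.map_one]
      | succ k ih => rw [pow_succ, pow_succ, Functor.map_mul, ih]
    rw [key, hx, Functor.map_one]
  · intro K _ _ t a b hab
    have hfst : ∀ i, ((Over.pullback q).map (x i)).left ≫ pullback.fst G.hom q =
        pullback.fst X.hom q ≫ (x i).left := fun i => (Parab.EtHom.isPullback_map q (x i)).w.symm
    have ha : a.left ≫ pullback.snd X.hom q = 𝟙 _ ≫ t := Over.w a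
    have hb : b.left ≫ pullback.snd X.hom q = 𝟙 _ ≫ t := Over.w b
    ext1
    apply pullback.hom_ext
    · refine hinj K _ _ ?_ fun i => ?_
      · rw [Category.assoc, Category.assoc, pullback.condition, ← Category.assoc, ← Category.assoc, ha, hb]
      · have h7 := congrArg (fun k => k.left) (hab i)
        rw [Category.assoc, Category.assoc, ← hfst, ← Category.assoc, ← Category.assoc]
        exact congrArg (· ≫ pullback.fst G.hom q) h7
    · exact ha.trans hb.symm

/-- Quasi-affineness over smaller opens. -/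
theorem isQuasiAffine_of_le {R : Type u} [CommRing R] (q : Spec (CommRingCat.of R) ⟶ S) [IsOpenImmersion q]
    (X : Over S) [QuasiCompact X.hom] (h : (Red.bc q X).left.IsQuasiAffine) {U : Scheme.{u}} [IsAffine U]
    (j : U ⟶ S) [IsOpenImmersion j] (hj : Set.range j ⊆ Set.range q) : (Red.bc j X).left.IsQuasiAffine := by
  let c : U ⟶ Spec (CommRingCat.of R) := IsOpenImmersion.lift q j hj
  have hc : c ≫ q = j := IsOpenImmersion.lift_fac _ _ _
  let m : pullback X.hom j ⟶ pullback X.hom q :=
    pullback.map X.hom j X.hom q (𝟙 _) c (𝟙 _) (by simp) (by rw [hc, Category.comp_id])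
  have hm : m ≫ pullback.fst X.hom q = pullback.fst X.hom j :=
    (pullback.lift_fst _ _ _).trans (Category.comp_id _)
  have hmo : IsOpenImmersion m := by
    have : IsOpenImmersion (m ≫ pullback.fst X.hom q) := by rw [hm]; infer_instance
    exact IsOpenImmersion.of_comp m (pullback.fst X.hom q)
  have hcomp : CompactSpace ↥(pullback X.hom j) :=
    (quasiCompact_iff_compactSpace (pullback.snd X.hom j)).mp inferInstance
  have hq : (pullback X.hom q).IsQuasiAffine := h
  change (pullback X.hom j).IsQuasiAffine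
  exact Scheme.IsQuasiAffine.of_isImmersion m

open H797.HomFin in
/-- **The scheme of homomorphisms from a finite group is quasi-affine**, locally on the base. -/
theorem exists_nhd_homScheme [Smooth G.hom] [QuasiCompact G.hom] [IsSeparated G.hom]
    (hconn : ∀ (K : Type u) [Field K] [IsAlgClosed K] (t : Spec (CommRingCat.of K) ⟶ S),
      ConnectedSpace (Red.bc t G).left)
    {F : Type*} [Group F] [Finite F] (hn : Inv (Nat.card F) S) {H : Over S} {υ : F →* (H ⟶ G)}
    (hH : IsHomScheme G F H υ) [LocallyOfFiniteType H.hom] [QuasiCompact H.hom] [IsSeparated H.hom]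
    (s : S) : ∃ U : S.Opens, s ∈ U ∧ IsAffineOpen U ∧ ∀ V : S.Opens, IsAffineOpen V → V ≤ U →
      (Red.bc V.ι H).left.IsQuasiAffine := by
  obtain ⟨R, _, q, hq, hs, h⟩ := exists_nhd G hconn H υ (Nat.card F) hn (fun γ => by
    rw [← map_pow, pow_card_eq_one', map_one]) (fun K _ _ a b hab hab' => by
      let T : Over S := Over.mk (a ≫ H.hom)
      let t₁ : T ⟶ H := Over.homMk a
      let t₂ : T ⟶ H := Over.homMk b hab.symm
      have h1 : t₁ = t₂ := by
        let φ : F →* (T ⟶ G) := MonoidHom.mk' (fun γ => t₁ ≫ υ γ) (fun γ δ => by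
          rw [map_mul, MonObj.comp_mul])
        refine (hH.existsUnique T φ).unique (fun γ => rfl) (fun γ => ?_)
        ext1
        exact (hab' γ).symm
      exact congrArg (fun k => k.left) h1) s
  refine ⟨q.opensRange, hs, isAffineOpen_opensRange q, fun V hV hVU => ?_⟩
  have : IsAffine V := hV
  refine isQuasiAffine_of_le q H h V.ι ?_
  rw [Scheme.Opens.range_ι]
  exact hVU

section finite

/-- Prime avoidance. -/
theorem exists_basicOpen_of_finite_spec {A : Type u} [CommRing A] (U : TopologicalSpace.Opens (PrimeSpectrum A))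
    (s : Set (PrimeSpectrum A)) (hs : s.Finite) (hsU : s ⊆ U) :
    ∃ f : A, s ⊆ PrimeSpectrum.basicOpen f ∧ PrimeSpectrum.basicOpen f ≤ U := by
  classical
  obtain ⟨I, hI⟩ := (PrimeSpectrum.isClosed_iff_zeroLocus_ideal _).1 U.isOpen.isClosed_compl
  obtain rfl | ⟨a, ha⟩ := s.eq_empty_or_nonempty
  · refine ⟨0, Set.empty_subset _, ?_⟩
    rw [PrimeSpectrum.basicOpen_zero]
    exact bot_le
  have h1 : ¬ ((I : Set A) ⊆ ⋃ p ∈ (hs.toFinset : Set (PrimeSpectrum A)), (p.asIdeal : Set A)) := by
    rw [Ideal.subset_union_prime (s := hs.toFinset) (f := fun p : PrimeSpectrum A => p.asIdeal) a a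
      (fun p _ _ _ => p.isPrime)]
    rintro ⟨p, hp, hIp⟩
    have hp1 : p ∈ s := by simpa using hp
    have hp2 : p ∈ (U : Set (PrimeSpectrum A))ᶜ := by
      rw [hI]
      exact hIp
    exact hp2 (hsU hp1)
  obtain ⟨f, hfI, hf⟩ := Set.not_subset.mp h1
  refine ⟨f, fun p hp hfp => hf ?_, fun p hp => ?_⟩
  · exact Set.mem_iUnion₂.mpr ⟨p, by simpa using hp, hfp⟩
  · by_contra hpU
    have hp2 : p ∈ (U : Set (PrimeSpectrum A))ᶜ := hpU
    rw [hI] at hp2
    exact hp (hp2 hfI)

/-- Finite sets of points of a quasi-affine scheme are contained in affine basic opens. -/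
theorem exists_basicOpen_of_finite (X : Scheme.{u}) [X.IsQuasiAffine] (s : Set X) (hs : s.Finite) :
    ∃ f : Γ(X, ⊤), IsAffineOpen (X.basicOpen f) ∧ s ⊆ X.basicOpen f := by
  obtain ⟨f, hf1, hf2⟩ := exists_basicOpen_of_finite_spec (A := Γ(X, ⊤)) X.toSpecΓ.opensRange
    (X.toSpecΓ '' s) (hs.image _) (by
      rintro _ ⟨x, -, rfl⟩
      exact ⟨x, rfl⟩)
  refine ⟨f, ?_, ?_⟩
  · rw [← Scheme.toSpecΓ_preimage_basicOpen, ← Scheme.Hom.isAffineOpen_iff_of_isOpenImmersion X.toSpecΓ]
    convert! IsAffineOpen.Spec_basicOpen f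
    exact SetLike.coe_injective (Set.image_preimage_eq_of_subset hf2)
  · rw [← Scheme.toSpecΓ_preimage_basicOpen]
    intro x hx
    exact hf1 ⟨x, hx, rfl⟩

end finite

end Groth.Agent.Sga3.H813.QAChart
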