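import Groth.Agent.RedSub.H647.FreeQ
import Groth.Agent.Sga3.H813.QAChart

/-!
# Quotients of quasi-affine schemes by finite groups

* `isQuasiAffine_of_isQuot`: the quotient of a quasi-affine scheme by a finite group is quasi-affine;
* `exists_isQuot`: it exists;
* `exists_freeQuot`: free quotients over a base, in terms of points.
-/

set_option autoImplicit false
universe u

open CategoryTheory CategoryTheory.Limits AlgebraicGeometry

namespace Groth.Agent.Sga3.H813.FreeQA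

open Groth.Agent.Sga1 Groth.Agent.Sga3B Groth.Agent.RedSub.H647

section sch

variable {X Y : Scheme.{u}} {G : Type u} [Group G] [Finite G] {ρ : G →* Aut X}

omit [Finite G] in
lemma appTop_mul (g h : G) (f : Γ(X, ⊤)) :
    (ρ g).hom.appTop ((ρ h).hom.appTop f) = (ρ (h * g)).hom.appTop f := by
  have : (ρ (h * g)).hom = (ρ g).hom ≫ (ρ h).hom := by
    rw [map_mul]; rfl
  rw [this, Scheme.Hom.comp_appTop]
  rfl

/-- The norm of a global function. -/
theorem exists_norm {p : X ⟶ Y} (hp : SGA1.IsQuot ρ p) (f : Γ(X, ⊤)) :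
    ∃ a : Γ(Y, ⊤), ∀ x : X, p x ∈ Y.basicOpen a ↔ ∀ g : G, (ρ g).hom x ∈ X.basicOpen f := by
  classical
  cases nonempty_fintype G
  let N : Γ(X, ⊤) := ∏ g : G, (ρ g).hom.appTop f
  have hN : ∀ g : G, (ρ g).hom.appTop N = N := by
    intro g
    rw [map_prod]
    refine Fintype.prod_equiv (Equiv.mulRight g) _ _ fun h => ?_
    exact appTop_mul g h f
  obtain ⟨a, ha⟩ := (hp.range_iff ⊤ N).2 fun g => by
    have h1 : (ρ g).hom.appLE (p ⁻¹ᵁ ⊤) (p ⁻¹ᵁ ⊤) (SGA1.preimage_le_of_inv ρ p hp.inv g ⊤) = (ρ g).hom.appTop :=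
      Scheme.Hom.appLE_eq_app (ρ g).hom
    rw [h1]
    exact hN g
  refine ⟨a, fun x => ?_⟩
  have h2 : p x ∈ Y.basicOpen a ↔ x ∈ X.basicOpen N := by
    have h3 := Scheme.preimage_basicOpen p (U := ⊤) a
    have h4 : p.app ⊤ a = N := ha
    rw [h4] at h3
    constructor
    · intro h
      have : x ∈ p ⁻¹ᵁ Y.basicOpen a := h
      rw [h3] at this
      exact this
    · intro h
      have : x ∈ p ⁻¹ᵁ Y.basicOpen a := by
        rw [h3]
        exact h
      exact this
  rw [h2, Scheme.mem_basicOpen_top, map_prod, IsUnit.prod_univ_iff]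
  refine forall_congr' fun g => ?_
  rw [← Scheme.mem_basicOpen_top]
  have h3 := Scheme.preimage_basicOpen (ρ g).hom (U := ⊤) f
  have h4 : X.basicOpen ((ρ g).hom.appTop f) = (ρ g).hom ⁻¹ᵁ X.basicOpen f := h3.symm
  rw [h4]
  rfl

/-- **The quotient of a quasi-affine scheme by a finite group is quasi-affine.** -/
theorem isQuasiAffine_of_isQuot [X.IsQuasiAffine] {p : X ⟶ Y} (hp : SGA1.IsQuot ρ p) : Y.IsQuasiAffine := by
  have := FreeQuotSch.surjective_of_isQuot hp
  have hY : CompactSpace Y := ⟨by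
    have h1 := isCompact_univ (X := X)
    have h2 := h1.image p.continuous
    rwa [Set.image_univ, p.surjective.range_eq] at h2⟩
  refine Scheme.IsQuasiAffine.of_forall_exists_mem_basicOpen Y fun y => ?_
  obtain ⟨x, rfl⟩ := p.surjective y
  obtain ⟨f, hf1, hf2⟩ := QAChart.exists_basicOpen_of_finite X (Set.range fun g : G => (ρ g).hom x)
    (Set.finite_range _)
  obtain ⟨a, ha⟩ := exists_norm hp f
  refine ⟨a, ?_, (ha x).2 fun g => hf2 ⟨g, rfl⟩⟩
  apply QuotAffine.isAffineOpen_of_preimage hp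
  have h1 : p ⁻¹ᵁ Y.basicOpen a = X.basicOpen (p.appTop a) := Scheme.preimage_basicOpen p (U := ⊤) a
  have h2 : X.basicOpen (p.appTop a) ≤ X.basicOpen f := by
    intro z hz
    rw [← h1] at hz
    have h3 := (ha z).1 hz 1
    rw [map_one] at h3
    exact h3
  rw [h1]
  have h3 := hf1.basicOpen ((X.presheaf.map (homOfLE (show X.basicOpen f ≤ ⊤ from le_top)).op) (p.appTop a))
  rw [Scheme.basicOpen_res] at h3
  have h4 : X.basicOpen f ⊓ X.basicOpen (p.appTop a) = X.basicOpen (p.appTop a) := inf_eq_right.mpr h2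
  rwa [h4] at h3

/-- Quotients of quasi-affine schemes by finite groups exist. -/
theorem exists_isQuot [X.IsQuasiAffine] (ρ : G →* Aut X) :
    ∃ (Y : Scheme.{u}) (p : X ⟶ Y), SGA1.IsQuot ρ p := by
  refine QuotExists.exists_isQuot ρ fun x => ?_
  obtain ⟨f, hf1, hf2⟩ := QAChart.exists_basicOpen_of_finite X (Set.range fun g : G => (ρ g).hom x)
    (Set.finite_range _)
  exact ⟨_, hf1, fun g => hf2 ⟨g, rfl⟩⟩

end sch

section rel

variable {S : Scheme.{u}} (Q : Over S) {Γ : Type u} [Group Γ] [Finite Γ]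

/-- **Free quotients** of quasi-affine schemes over a base. -/
theorem exists_freeQuot [Q.left.IsQuasiAffine] [Smooth Q.hom] (ρ : Γ →* Aut Q)
    (hfree : ∀ (K : Type u) [Field K] [IsAlgClosed K] (ξ : Spec (CommRingCat.of K) ⟶ Q.left) (g : Γ),
      ξ ≫ (ρ g).hom.left = ξ → g = 1) :
    ∃ (M : Over S) (p : Q ⟶ M), Etale p.left ∧ Surjective p.left ∧ IsFinite p.left ∧
      Smooth M.hom ∧ M.left.IsQuasiAffine ∧ (∀ g, (ρ g).hom ≫ p = p) ∧
      ∀ (X : Over S) (x y : X ⟶ Q), x ≫ p = y ≫ p → ∀ t : X.left, ∃ (X' : Over S) (j : X' ⟶ X),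
        IsOpenImmersion j.left ∧ t ∈ Set.range j.left ∧ ∃ g, j ≫ y = j ≫ x ≫ (ρ g).hom := by
  let ρ₀ : Γ →* Aut Q.left := ((Over.forget S).mapAut Q).comp ρ
  have hρ₀ : ∀ g, (ρ₀ g).hom = (ρ g).hom.left := fun g => rfl
  have hfree₀ : FreeQuotSch.IsFree ρ₀ := fun K _ _ ξ g h => hfree K ξ g h
  obtain ⟨Y, p, hp⟩ := exists_isQuot ρ₀
  have := FreeQuotSch.etale_of_isFree hp hfree₀
  have := FreeQuotSch.finite_of_isFree hp hfree₀
  have := FreeQuotSch.surjective_of_isQuot hp
  -- the structure morphism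
  obtain ⟨s, hs, -⟩ := AdFppf.glueScheme (X := Y) (Y := S) (I := PUnit.{u+1}) (fun _ => Q.left) (fun _ => p)
    (fun _ => inferInstance) (fun _ => inferInstance) (fun y => ⟨⟨⟩, p.surjective y⟩) (fun _ => Q.hom) (by
      intro _ _ W a b hab
      choose U hU g hg using fun w : W => FreeQ.exists_local hp hfree₀ a b hab w
      let 𝒰 : Scheme.OpenCover.{u} W := Scheme.openCoverOfIsOpenCover W U (by
        rw [TopologicalSpace.IsOpenCover, eq_top_iff]
        intro w _
        exact TopologicalSpace.Opens.mem_iSup.2 ⟨w, hU w⟩)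
      refine Scheme.Cover.hom_ext 𝒰 _ _ fun w => ?_
      change (U w).ι ≫ a ≫ Q.hom = (U w).ι ≫ b ≫ Q.hom
      rw [← Category.assoc _ b, hg w, hρ₀, Category.assoc, Category.assoc, Over.w])
  have hsp : p ≫ s = Q.hom := hs ⟨⟩
  let M : Over S := Over.mk s
  let p' : Q ⟶ M := Over.homMk p hsp
  have hsm : Smooth (p ≫ s) := by rw [hsp]; infer_instance
  refine ⟨M, p', ‹_›, ‹_›, ‹_›, Groth.Agent.S0115.result p s, isQuasiAffine_of_isQuot hp, fun g => ?_, ?_⟩
  · apply Over.OverMorphism.ext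
    exact hp.inv g
  · intro X x y hxy t
    obtain ⟨U, hU, g, hg⟩ := FreeQ.exists_local hp hfree₀ x.left y.left (congrArg (fun k => k.left) hxy) t
    refine ⟨Over.mk (U.ι ≫ X.hom), Over.homMk U.ι rfl, inferInstanceAs (IsOpenImmersion U.ι), ⟨⟨t, hU⟩, rfl⟩, g, ?_⟩
    apply Over.OverMorphism.ext
    exact hg

end rel

end Groth.Agent.Sga3.H813.FreeQA
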