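import Groth.Agent.Sga3.H813.RepCrit

/-!
# From `SGA3x.ConjBy` to `RepCrit.ConjTo`
-/

set_option autoImplicit false

universe u

open CategoryTheory MonoidalCategory CartesianMonoidalCategory MonObj GrpObj AlgebraicGeometry Limits

namespace Groth.Agent.Sga3.H813.ConjToBy

open Groth.Agent.Sga3B Groth.Agent.Sga3B.BcPts Groth.Agent.Sga3B.MT Groth.Agent.Sga3B.Parab
open Groth.Agent.Redsub.H649.ConjPts Groth.Agent.Redsub.H649.ConjLoc Groth.Agent.Sga3.H813.RepCrit

section base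

variable {S : Scheme.{u}} {G T₁ T₂ : Over S} [GrpObj G] {i₁ : T₁ ⟶ G} {i₂ : T₂ ⟶ G} {g : 𝟙_ (Over S) ⟶ G}

lemma inC_iff_of_conjBy (h : SGA3x.ConjBy i₁ i₂ g) (X : Over S) (γ : X ⟶ G) :
    InC i₁ (toUnit X ≫ g) γ ↔ ∃ x : X ⟶ T₂, x ≫ i₂ = γ := by
  obtain ⟨φ, hφ⟩ := h
  have key : ∀ (x : X ⟶ T₁), (toUnit X ≫ g) * (x ≫ i₁) * (toUnit X ≫ g)⁻¹ = (x ≫ φ.hom) ≫ i₂ := by
    intro x
    rw [Category.assoc, ← hφ, MonObj.comp_mul, MonObj.comp_mul, GrpObj.comp_inv, ← Category.assoc,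
      toUnit_unique (x ≫ toUnit _) (toUnit X)]
  constructor
  · rintro ⟨x, hx⟩
    refine ⟨x ≫ φ.hom, ?_⟩
    rw [← key, hx]
    group
  · rintro ⟨x, rfl⟩
    refine ⟨x ≫ φ.inv, ?_⟩
    have := key (x ≫ φ.inv)
    rw [Category.assoc x φ.inv φ.hom, Iso.inv_hom_id, Category.comp_id] at this
    rw [← this]
    group

end base

variable {S S' S'' : Scheme.{u}} {f : S' ⟶ S} {G T : Over S} [GrpObj G]

omit [GrpObj G] in
lemma bcEquiv_symm_left (f : S' ⟶ S) {X : Over S'} (γ : X ⟶ Red.bc f G) :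
    ((bcEquiv f X G).symm γ).left = γ.left ≫ pullback.fst G.hom f := by
  simp [bcEquiv, Adjunction.homEquiv_counit]

/-- The point of `G` defined by a section of the iterated base change. -/
noncomputable def secPt (c : S'' ⟶ S') (f : S' ⟶ S) (g : 𝟙_ (Over S'') ⟶ Red.bc c (Red.bc f G)) :
    Over.mk (c ≫ f) ⟶ G :=
  Over.homMk (g.left ≫ pullback.fst (Red.bc f G).hom c ≫ pullback.fst G.hom f) (by
    have h1 : g.left ≫ pullback.snd (Red.bc f G).hom c = 𝟙 _ := Over.w g
    have h2 : pullback.fst (Red.bc f G).hom c ≫ pullback.snd G.hom f =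
        pullback.snd (Red.bc f G).hom c ≫ c := pullback.condition
    rw [Category.assoc, Category.assoc, pullback.condition, ← Category.assoc (pullback.fst (Red.bc f G).hom c),
      h2, Category.assoc, ← Category.assoc, h1]
    exact Category.id_comp _)

/-- **`ConjBy` after base change implies `ConjTo`.** -/
theorem conjTo_of_conjBy (i : T ⟶ G) {T' : Over S'} (i' : T' ⟶ Red.bc f G) (c : S'' ⟶ S')
    (g : 𝟙_ (Over S'') ⟶ Red.bc c (Red.bc f G))
    (h : SGA3x.ConjBy ((Over.pullback c).map ((Over.pullback f).map i)) ((Over.pullback c).map i') g) :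
    ConjTo i i' c (secPt c f g) := by
  intro X a γ
  let Y : Over S'' := Over.mk a.left
  let ε : (Over.map f).obj ((Over.map c).obj Y) ≅ X := Over.isoMk (Iso.refl _) (by
    have := Over.w a
    simp only [Over.mk_hom] at this
    simp [Y, ← this])
  let Γ' : (Over.map c).obj Y ⟶ Red.bc f G := bcEquiv f _ G (ε.hom ≫ γ)
  let Γ : Y ⟶ Red.bc c (Red.bc f G) := bcEquiv c _ _ Γ'
  have h1 := inC_iff_of_conjBy h Y Γ
  have e1 : toUnit Y ≫ g = bcEquiv c Y _ (bcEquiv f _ G (ε.hom ≫ a ≫ secPt c f g)) := by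
    rw [← Equiv.symm_apply_eq, ← Equiv.symm_apply_eq]
    ext1
    rw [bcEquiv_symm_left, bcEquiv_symm_left]
    have h2 : (toUnit Y).left = a.left := by
      have := Over.w (toUnit Y)
      exact (Category.comp_id _).symm.trans this
    rw [Over.comp_left, h2]
    have h3 : (ε.hom ≫ a ≫ secPt c f g).left = a.left ≫ (secPt c f g).left := Category.id_comp _
    rw [h3]
    simp only [Category.assoc]
    rfl
  rw [e1, inC_bc_iff, inC_bc_iff, exists_bc_iff] at h1
  have h2 : InC i (ε.hom ≫ a ≫ secPt c f g) (ε.hom ≫ γ) ↔ InC i (a ≫ secPt c f g) γ := by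
    constructor
    · intro h
      have := InC.comp i h ε.inv
      rwa [Iso.inv_hom_id_assoc, Iso.inv_hom_id_assoc] at this
    · intro h
      exact InC.comp i h ε.hom
  rw [← h2, h1]
  have h5 : Γ'.left ≫ pullback.fst G.hom f = γ.left := by
    rw [← bcEquiv_symm_left]
    rw [Equiv.symm_apply_apply]
    exact Category.id_comp _
  have h8 : Γ'.left ≫ pullback.snd G.hom f = a.left ≫ c := Over.w Γ'
  have h9 : i'.left ≫ pullback.snd G.hom f = T'.hom := Over.w i'
  constructor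
  · rintro ⟨x, hx⟩
    refine ⟨x.left, Over.w x, ?_⟩
    rw [← h5, ← hx]
    exact (Category.assoc _ _ _).symm
  · rintro ⟨x, hx1, hx2⟩
    refine ⟨Over.homMk x hx1, ?_⟩
    ext1
    apply pullback.hom_ext
    · rw [h5]
      exact (Category.assoc _ _ _).trans hx2
    · rw [h8]
      refine (Category.assoc _ _ _).trans ?_
      rw [h9]
      exact hx1

end Groth.Agent.Sga3.H813.ConjToBy
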