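import Groth.Agent.Sga3B.AdRep
import Groth.Agent.Sga3B.AdQF

/-!
# The adjoint-type representations of a group scheme on the infinitesimal neighbourhoods of the unit

`G` is a group scheme over `Spec R`, `Spec B ⟶ G` an open immersion through which the unit section factors, `I` the
augmentation ideal of `B`, `n ≠ 0` and `E = B / I ^ n`.  Conjugation induces an action of `G` on `D = Spec E`, and when
`E` is finite free over `R` a homomorphism `G ⟶ GLS m (Spec R)` whose kernel consists of the points commuting with `D`.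

* `exists_eD`: the unit section of `Spec (B / I ^ n)`;
* `exists_adRep`: the representation (generalises `Sga3B.AdRep.exists_adRep`, `n = 2`);
* `centralizes_bc`: centralizing `Spec (B / I ^ n)` is stable under base change.
-/

set_option autoImplicit false

universe u

open CategoryTheory MonoidalCategory CartesianMonoidalCategory AlgebraicGeometry Limits MonObj

namespace Groth.Agent.Sga3.H813.AdN

open Sga3B.GLn Sga3B.FreeBC Sga3B.LinRep Sga3B.AdRep

section SqZero

variable {R E : Type u} [CommRing R] [CommRing E] [Algebra R E]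

/-- The kernel of `Γ(T × D) → Γ(T)` is contained in the ideal generated by the augmentation ideal. -/
lemma ker_sec_le (eD : 𝟙_ (Over (Spec (CommRingCat.of R))) ⟶ DE R E)
    (T : Over (Spec (CommRingCat.of R))) [CompactSpace T.left] [QuasiSeparatedSpace T.left]
    {m : Type u} [Fintype m] (b : Module.Basis m R E) :
    RingHom.ker (sec eD T).left.appTop.hom ≤ (augIdeal eD).map (fn (snd T (DE R E))) := by
  intro x hx
  obtain ⟨c, hc⟩ := exists_expansion (E := E) T b x
  have h1 := sub_eq eD T b c x hc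
  have hx' : (sec eD T).left.appTop x = 0 := hx
  rw [hx', map_zero, zero_add] at h1
  rw [h1]
  refine Ideal.sum_mem _ fun j _ => Ideal.mul_mem_left _ _ (Ideal.mem_map_of_mem _ ?_)
  exact fn_sub_aug eD (b j)

/-- The kernel of `Γ(T × D) → Γ(T)` is nilpotent. -/
lemma ker_sec_pow (eD : 𝟙_ (Over (Spec (CommRingCat.of R))) ⟶ DE R E) (n : ℕ)
    (hn : augIdeal eD ^ n = ⊥)
    (T : Over (Spec (CommRingCat.of R))) [CompactSpace T.left] [QuasiSeparatedSpace T.left]
    {m : Type u} [Fintype m] (b : Module.Basis m R E) :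
    RingHom.ker (sec eD T).left.appTop.hom ^ n = ⊥ := by
  rw [eq_bot_iff]
  refine (Ideal.pow_right_mono (ker_sec_le eD T b) n).trans ?_
  rw [← Ideal.map_pow, hn, Ideal.map_bot]

end SqZero

section Nbhd

variable {R B : Type u} [CommRing R] [CommRing B] [Algebra R B]
variable {G : Over (Spec (CommRingCat.of R))} [GrpObj G]

/-- Factorization of infinitesimal points through the `n`-th infinitesimal neighbourhood. -/
lemma factor (n : ℕ) (w : DE R B ⟶ G) [IsOpenImmersion w.left]
    (eW : 𝟙_ (Over (Spec (CommRingCat.of R))) ⟶ DE R B) (heW : eW ≫ w = η)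
    {X X₀ : Over (Spec (CommRingCat.of R))} (i : X₀ ⟶ X) [Surjective i.left]
    (hJ : RingHom.ker i.left.appTop.hom ^ n = ⊥)
    (x : X ⟶ G) (hx : i ≫ x = 1) :
    ∃ y : X ⟶ DE R (B ⧸ (augIdeal eW) ^ n), y ≫ quotMap _ ≫ w = x := by
  have hx' : i ≫ x = (toUnit X₀ ≫ eW) ≫ w := by
    rw [hx, Category.assoc, heW]
    rfl
  -- lift to W
  have hrange : Set.range x.left ⊆ Set.range w.left := by
    rintro _ ⟨p, rfl⟩
    obtain ⟨q, rfl⟩ := i.left.surjective p
    refine ⟨(toUnit X₀ ≫ eW).left q, ?_⟩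
    have := congr(($hx').left q)
    simpa using this.symm
  let xW : X ⟶ DE R B := Over.homMk (IsOpenImmersion.lift w.left x.left hrange) (by
    rw [← Over.w w, IsOpenImmersion.lift_fac_assoc, Over.w])
  have hxW : xW ≫ w = x := by
    ext1
    simp [xW, IsOpenImmersion.lift_fac]
  have : Mono w := by
    have : Mono w.left := inferInstance
    exact Over.mono_of_mono_left w
  have hi : i ≫ xW = toUnit X₀ ≫ eW := by
    rw [← cancel_mono w, Category.assoc, hxW, hx']
  -- the ring map kills the power of the augmentation ideal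
  have h0 : (augIdeal eW).map (fn xW) ≤ RingHom.ker i.left.appTop.hom := by
    rw [Ideal.map_le_iff_le_comap]
    intro z hz
    change i.left.appTop (fn xW z) = 0
    rw [← fn_comp, hi, fn_comp, show fn eW z = 0 from hz, map_zero]
  have h1 : ∀ z ∈ (augIdeal eW) ^ n, fn xW z = 0 := by
    intro z hz
    have h2 : ((augIdeal eW) ^ n).map (fn xW) ≤ ⊥ := by
      rw [Ideal.map_pow, ← hJ]
      exact Ideal.pow_right_mono h0 n
    exact h2 (Ideal.mem_map_of_mem _ hz)
  obtain ⟨y, hy⟩ := factor_quot xW h1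
  exact ⟨y, by rw [← Category.assoc, hy, hxW]⟩

/-- The unit section of the infinitesimal neighbourhood. -/
lemma exists_eD (n : ℕ) (hn : n ≠ 0) (eW : 𝟙_ (Over (Spec (CommRingCat.of R))) ⟶ DE R B) :
    ∃ eD : 𝟙_ (Over (Spec (CommRingCat.of R))) ⟶ DE R (B ⧸ (augIdeal eW) ^ n),
      eD ≫ quotMap _ = eW ∧ Surjective eD.left ∧ augIdeal eD ^ n = ⊥ := by
  obtain ⟨eD, heD⟩ := factor_quot (J := (augIdeal eW) ^ n) eW (by
    intro x hx
    exact Ideal.pow_le_self hn hx)
  have hfn : ∀ x, fn eD (Ideal.Quotient.mk _ x) = fn eW x := by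
    intro x
    rw [← fn_quotMap, heD]
  refine ⟨eD, heD, ?_, ?_⟩
  · let φ : CommRingCat.of (B ⧸ (augIdeal eW) ^ n) ⟶ CommRingCat.of R := Spec.preimage eD.left
    have hφ : Spec.map φ = eD.left := Spec.map_preimage _
    have h1 : ∀ x, fn eD x = (Scheme.ΓSpecIso (CommRingCat.of R)).inv (φ x) := by
      intro x
      have : (Scheme.ΓSpecIso (CommRingCat.of (B ⧸ (augIdeal eW) ^ n))).inv ≫ eD.left.appTop =
          φ ≫ (Scheme.ΓSpecIso (CommRingCat.of R)).inv := by
        rw [← hφ]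
        exact (Scheme.ΓSpecIso_inv_naturality _).symm
      exact congr($(this).hom x)
    have hinj : Function.Injective (Scheme.ΓSpecIso (CommRingCat.of R)).inv.hom :=
      (Scheme.ΓSpecIso (CommRingCat.of R)).symm.commRingCatIsoToRingEquiv.injective
    have hsurj : Function.Surjective φ.hom := by
      intro r
      refine ⟨algebraMap R _ r, hinj ?_⟩
      have h2 := h1 (algebraMap R _ r)
      rw [fn_algebraMap] at h2
      refine h2.symm.trans ?_
      simp
    rw [← hφ]
    refine ⟨fun p => ?_⟩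
    have hr := range_comap_of_surjective _ φ.hom hsurj
    have hk : PrimeSpectrum.zeroLocus
        ((RingHom.ker φ.hom : Ideal (B ⧸ (augIdeal eW) ^ n)) : Set (B ⧸ (augIdeal eW) ^ n)) =
          Set.univ := by
      rw [PrimeSpectrum.zeroLocus_eq_univ_iff]
      intro x hx
      obtain ⟨x, rfl⟩ := Ideal.Quotient.mk_surjective x
      have hx0 : fn eD (Ideal.Quotient.mk _ x) = 0 := by
        rw [h1]
        have : φ (Ideal.Quotient.mk _ x) = 0 := hx
        rw [this, map_zero]
      rw [hfn] at hx0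
      refine ⟨n, ?_⟩
      rw [← map_pow]
      exact Ideal.Quotient.eq_zero_iff_mem.mpr (Ideal.pow_mem_pow hx0 n)
    rw [hk] at hr
    have : p ∈ Set.range (PrimeSpectrum.comap φ.hom) := by
      rw [hr]; trivial
    exact this
  · have h2 : augIdeal eD ≤ (augIdeal eW).map (Ideal.Quotient.mk _) := by
      intro x hx
      obtain ⟨x, rfl⟩ := Ideal.Quotient.mk_surjective x
      have hx' : fn eD (Ideal.Quotient.mk _ x) = 0 := hx
      rw [hfn] at hx'
      exact Ideal.mem_map_of_mem _ hx'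
    rw [eq_bot_iff]
    refine (Ideal.pow_right_mono h2 n).trans ?_
    rw [← Ideal.map_pow, Ideal.map_quotient_self]

/-- **The adjoint representation on the infinitesimal neighbourhoods of the unit.** -/
theorem exists_adRep (n : ℕ) (hn : n ≠ 0) [CompactSpace G.left] [QuasiSeparatedSpace G.left]
    (w : DE R B ⟶ G) [IsOpenImmersion w.left]
    (eW : 𝟙_ (Over (Spec (CommRingCat.of R))) ⟶ DE R B) (heW : eW ≫ w = η)
    {m : Type u} [Fintype m] [DecidableEq m] (b : Module.Basis m R (B ⧸ (augIdeal eW) ^ n)) :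
    ∃ f : G ⟶ GLS m (Spec (CommRingCat.of R)), IsMonHom f ∧
      ∀ {T : Over (Spec (CommRingCat.of R))} (g : T ⟶ G),
        g ≫ f = 1 ↔ ∀ (X : Over (Spec (CommRingCat.of R))) (p : X ⟶ T)
          (d : X ⟶ DE R (B ⧸ (augIdeal eW) ^ n)),
          (p ≫ g) * (d ≫ quotMap _ ≫ w) * (p ≫ g)⁻¹ = d ≫ quotMap _ ≫ w := by
  obtain ⟨eD, heD, hsurj, hsq⟩ := exists_eD n hn eW
  set j : DE R (B ⧸ (augIdeal eW) ^ n) ⟶ G := quotMap _ ≫ w with hj
  have hmono : Mono j := by
    have : Mono j.left := by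
      rw [hj, Over.comp_left]
      infer_instance
    exact Over.mono_of_mono_left j
  have hej : eD ≫ j = η := by rw [hj, ← Category.assoc, heD, heW]
  -- the conjugation morphism
  let c : G ⊗ DE R (B ⧸ (augIdeal eW) ^ n) ⟶ G := fst _ _ * (snd _ _ ≫ j) * (fst _ _)⁻¹
  have hc : ∀ {T : Over (Spec (CommRingCat.of R))} (g : T ⟶ G)
      (d : T ⟶ DE R (B ⧸ (augIdeal eW) ^ n)), lift g d ≫ c = g * (d ≫ j) * g⁻¹ := by
    intro T g d
    simp only [c]
    rw [MonObj.comp_mul, MonObj.comp_mul, GrpObj.comp_inv, lift_fst, ← Category.assoc, lift_snd]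
  have := surjective_sec eD G
  obtain ⟨a, ha⟩ := factor n w eW heW (sec eD G)
    (ker_sec_pow eD n hsq G b) c (by
      rw [sec, hc, Category.assoc, hej]
      have : toUnit G ≫ η = (1 : G ⟶ G) := rfl
      rw [this, _root_.mul_one, mul_inv_cancel])
  rw [← hj] at ha
  have hact : ∀ {T : Over (Spec (CommRingCat.of R))} (g : T ⟶ G)
      (d : T ⟶ DE R (B ⧸ (augIdeal eW) ^ n)), (lift g d ≫ a) ≫ j = g * (d ≫ j) * g⁻¹ := by
    intro T g d
    rw [Category.assoc, ha, hc]
  obtain ⟨f, hf, hker⟩ := exists_rep (G := G) a (by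
    intro T d
    rw [← cancel_mono j, hact]
    simp) (by
    intro T g h d
    rw [← cancel_mono j, hact, hact, hact]
    group) b
  refine ⟨f, hf, fun {T} g => ?_⟩
  rw [hker]
  constructor
  · intro h X p d
    have h2 := congr(lift p d ≫ $h)
    rw [lift_snd, ← Category.assoc] at h2
    have h3 : lift p d ≫ g ▷ DE R (B ⧸ (augIdeal eW) ^ n) = lift (p ≫ g) d := by
      apply CartesianMonoidalCategory.hom_ext
      · simp
      · simp
    rw [h3] at h2
    rw [← hact, h2]
  · intro h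
    have h3 : g ▷ DE R (B ⧸ (augIdeal eW) ^ n) = lift (fst _ _ ≫ g) (snd _ _) := by
      apply CartesianMonoidalCategory.hom_ext
      · simp
      · simp
    rw [h3, ← cancel_mono j, hact]
    exact h _ (fst _ _) (snd _ _)

end Nbhd

lemma ker_appTop_pow {K E : Type u} [CommRing K] [CommRing E] [Algebra K E] (n : ℕ)
    (eD : 𝟙_ (Over (Spec (CommRingCat.of K))) ⟶ DE K E)
    (hsq : augIdeal eD ^ n = ⊥) :
    RingHom.ker eD.left.appTop.hom ^ n = ⊥ := by
  have h1 : ∀ z : Γ(Spec (CommRingCat.of E), ⊤),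
      fn eD ((Scheme.ΓSpecIso (CommRingCat.of E)).hom z) = eD.left.appTop z := by
    intro z
    change eD.left.appTop ((Scheme.ΓSpecIso (CommRingCat.of E)).inv ((Scheme.ΓSpecIso (CommRingCat.of E)).hom z)) = _
    congr 1
    exact congr($((Scheme.ΓSpecIso (CommRingCat.of E)).hom_inv_id) z)
  let φ : Γ(Spec (CommRingCat.of E), ⊤) ≃+* E := (Scheme.ΓSpecIso (CommRingCat.of E)).commRingCatIsoToRingEquiv
  have h2 : RingHom.ker eD.left.appTop.hom ≤ (augIdeal eD).comap (φ : Γ(Spec (CommRingCat.of E), ⊤) →+* E) := by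
    intro z hz
    change fn eD ((Scheme.ΓSpecIso (CommRingCat.of E)).hom z) = 0
    rw [h1]
    exact hz
  rw [eq_bot_iff]
  refine (Ideal.pow_right_mono h2 n).trans ?_
  have h3 : (augIdeal eD).comap (φ : Γ(Spec (CommRingCat.of E), ⊤) →+* E) =
      (augIdeal eD).map (φ.symm : E →+* Γ(Spec (CommRingCat.of E), ⊤)) :=
    (Ideal.map_comap_of_equiv φ.symm (I := augIdeal eD)).symm
  rw [h3, ← Ideal.map_pow, hsq, Ideal.map_bot]

open Sga3B.BcPts in
/-- Centralizing the infinitesimal neighbourhoods of the unit is stable under base change. -/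
theorem centralizes_bc (n : ℕ) (hn : n ≠ 0) {R B : Type u} [CommRing R] [CommRing B] [Algebra R B]
    {G N : Over (Spec (CommRingCat.of R))} [GrpObj G]
    (w : DE R B ⟶ G) [IsOpenImmersion w.left] (eW : 𝟙_ (Over (Spec (CommRingCat.of R))) ⟶ DE R B)
    (heW : eW ≫ w = η) (ν : N ⟶ G)
    (hν : ∀ (X : Over (Spec (CommRingCat.of R))) (p : X ⟶ N) (d : X ⟶ DE R (B ⧸ augIdeal eW ^ n)),
      (p ≫ ν) * (d ≫ quotMap _ ≫ w) * (p ≫ ν)⁻¹ = d ≫ quotMap _ ≫ w)
    {K A : Type u} [CommRing K] [CommRing A] [Algebra K A]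
    (t : Spec (CommRingCat.of K) ⟶ Spec (CommRingCat.of R))
    (wK : DE K A ⟶ Red.bc t G) (eK : 𝟙_ (Over (Spec (CommRingCat.of K))) ⟶ DE K A)
    (heK : eK ≫ wK = η) (X : Over (Spec (CommRingCat.of K))) (x : (Over.map t).obj X ⟶ N)
    (d : X ⟶ DE K (A ⧸ augIdeal eK ^ n)) :
    bcMulEquiv t X G (x ≫ ν) * (d ≫ quotMap _ ≫ wK) * (bcMulEquiv t X G (x ≫ ν))⁻¹ =
      d ≫ quotMap _ ≫ wK := by
  obtain ⟨eD, heD, hsurj, hsq⟩ := exists_eD n hn eK
  let D := DE K (A ⧸ augIdeal eK ^ n)
  let x₁ : (Over.map t).obj D ⟶ G := (bcMulEquiv t D G).symm (quotMap _ ≫ wK)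
  have hx₁ : bcMulEquiv t D G x₁ = quotMap _ ≫ wK := MulEquiv.apply_symm_apply _ _
  have hsurj' : Surjective ((Over.map t).map eD).left := hsurj
  obtain ⟨y, hy⟩ := factor n w eW heW ((Over.map t).map eD) (ker_appTop_pow n eD hsq) x₁ (by
    apply (bcMulEquiv t (𝟙_ _) G).injective
    have h1 : bcMulEquiv t (𝟙_ _) G ((Over.map t).map eD ≫ x₁) = eD ≫ bcMulEquiv t D G x₁ :=
      comp_bcEquiv t eD x₁
    rw [h1, hx₁, map_one, ← Category.assoc, heD, heK]
    exact one_eq_one _)
  have h3 : d ≫ quotMap (augIdeal eK ^ n) ≫ wK =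
      bcMulEquiv t X G (((Over.map t).map d ≫ y) ≫ quotMap _ ≫ w) := by
    rw [Category.assoc, hy, ← hx₁]
    exact (comp_bcEquiv t d x₁).symm
  rw [h3, ← map_inv, ← map_mul, ← map_mul, hν]

end Groth.Agent.Sga3.H813.AdN
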