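import Groth.Agent.Sga3C.Center
import Groth.Agent.Sga3.H792.PowFlat
import Groth.Agent.S3027
import Groth.Agent.Books.AlgPts
import Groth.Agent.Localalg.GrpSchComp2
import Mathlib.AlgebraicGeometry.Morphisms.QuasiFinite
import Mathlib.AlgebraicGeometry.Morphisms.Etale

/-!
# Points acting trivially on all infinitesimal neighbourhoods of the unit are central

* `central_of_forall`: `G` connected of finite type over a field; points commuting with all infinitesimal
  neighbourhoods of the unit are central.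
* `finite_central_torsion`: over an algebraically closed field the set of central rational points killed by an
  integer `N` prime to the characteristic is finite.
-/

set_option autoImplicit false

universe u

open CategoryTheory MonoidalCategory CartesianMonoidalCategory AlgebraicGeometry MonObj GrpObj

namespace Groth.Agent.Sga3.H813.CentralInf

open Sga3B.GLn Sga3B.FreeBC Sga3B.LinRep Sga3B.AdRep Sga3C Sga3C.AdRepN

/-- Étale morphisms are locally quasi-finite. -/
theorem locallyQuasiFinite_of_etale {X Y : Scheme.{u}} (f : X ⟶ Y) [Etale f] : LocallyQuasiFinite f := by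
  rw [HasRingHomProperty.iff_appLE (P := @LocallyQuasiFinite)]
  intro U V e
  have h := HasRingHomProperty.appLE (P := @Etale) f inferInstance U V e
  algebraize [(Scheme.Hom.appLE f U V e).hom]
  have : Algebra.Etale Γ(Y, U) Γ(X, V) := h
  change Algebra.QuasiFinite _ _
  infer_instance

/-- Points commuting with all infinitesimal neighbourhoods of the unit commute with everything. -/
theorem central_of_forall (k : Type u) [Field k] (G : Over (Spec (CommRingCat.of k))) [GrpObj G]
    [LocallyOfFiniteType G.hom] [QuasiCompact G.hom] [ConnectedSpace G.left]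
    {B : Type u} [CommRing B] [Algebra k B] (w : DE k B ⟶ G) [IsOpenImmersion w.left]
    (eW : 𝟙_ (Over (Spec (CommRingCat.of k))) ⟶ DE k B) (heW : eW ≫ w = η[G])
    (N : Over (Spec (CommRingCat.of k))) [LocallyOfFiniteType N.hom] (i : N ⟶ G)
    (hi : ∀ (n : ℕ) (X : Over (Spec (CommRingCat.of k))) (p : X ⟶ N)
      (d : X ⟶ DE k (B ⧸ (augIdeal eW) ^ (n + 1))),
      (p ≫ i) * (d ≫ quotMap _ ≫ w) * (p ≫ i)⁻¹ = d ≫ quotMap _ ≫ w)
    (T : Over (Spec (CommRingCat.of k))) (t : T ⟶ N) (h : T ⟶ G) :
    (t ≫ i) * h = h * (t ≫ i) := by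
  have hfn : LocallyOfFiniteType G.hom := ‹_›
  have : CompactSpace G.left := by
    have := QuasiCompact.isCompact_preimage (f := G.hom) Set.univ isOpen_univ isCompact_univ
    exact ⟨by simpa using this⟩
  have : IsLocallyNoetherian G.left := LocallyOfFiniteType.isLocallyNoetherian G.hom
  have : IsNoetherian G.left := {}
  have : GrpObj (Over.mk G.hom) := ‹GrpObj G›
  have hgi : GeometricallyIrreducible G.hom :=
    GrpIrr.geometricallyIrreducible_of_connectedSpace G.hom
  have huo : UniversallyOpen G.hom := ArtinBase.universallyOpen_of_isArtinianRing k G.hom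
  have hc : (fst N G ≫ i) * snd N G * (fst N G ≫ i)⁻¹ = snd N G := by
    have hlft' : LocallyOfFiniteType (N ⊗ G).hom := by
      have h1 : (N ⊗ G).hom = (snd N G).left ≫ G.hom := (Over.w _).symm
      rw [h1]
      have h2 : LocallyOfFiniteType (snd N G).left := by
        rw [Over.snd_left]; infer_instance
      infer_instance
    have hlnP : IsLocallyNoetherian (N ⊗ G).left :=
      LocallyOfFiniteType.isLocallyNoetherian (N ⊗ G).hom
    set f₁ : N ⊗ G ⟶ G := (fst N G ≫ i) * snd N G * (fst N G ≫ i)⁻¹ with hf₁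
    have key : ∀ y : (N ⊗ G).left,
        (snd N G).left y ∈ Set.range (η[G] : 𝟙_ (Over (Spec (CommRingCat.of k))) ⟶ G).left →
        ∃ U : (N ⊗ G).left.Opens, y ∈ U ∧ U.ι ≫ f₁.left = U.ι ≫ (snd N G).left := by
      intro y hy
      refine KrullPt.exists_nhd w eW heW f₁ (snd N G) y hy ?_
      intro n X t d hd
      have h1 := hi n X (t ≫ fst N G) d
      rw [hd] at h1
      rw [hf₁, MonObj.comp_mul, MonObj.comp_mul, GrpObj.comp_inv, ← Category.assoc]
      exact h1
    choose U hyU hU using key
    let W : (N ⊗ G).left.Opens := ⨆ (y : (N ⊗ G).left)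
      (hy : (snd N G).left y ∈ Set.range (η[G] : 𝟙_ (Over (Spec (CommRingCat.of k))) ⟶ G).left), U y hy
    refine CentDom.conj_eq N i W ?_ ?_
    · intro v hv
      exact TopologicalSpace.Opens.mem_iSup.mpr
        ⟨v, TopologicalSpace.Opens.mem_iSup.mpr ⟨hv, hyU v hv⟩⟩
    · refine Center.iSup_ι_comp_eq _ _ _ fun y => Center.iSup_ι_comp_eq _ _ _ fun hy => hU y hy
  have h1 := congr(lift t h ≫ $hc)
  rw [MonObj.comp_mul, MonObj.comp_mul, GrpObj.comp_inv, lift_snd, ← Category.assoc, lift_fst] at h1
  exact mul_inv_eq_iff_eq_mul.mp h1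

open Groth.Agent.Books.AlgPts in
/-- The central rational points killed by an integer prime to the characteristic are finite in number. -/
theorem finite_central_torsion (K : Type u) [Field K] [IsAlgClosed K]
    (G : Over (Spec (CommRingCat.of K))) [GrpObj G]
    [LocallyOfFiniteType G.hom] [QuasiCompact G.hom] [ConnectedSpace G.left] (N : ℕ) (hN : (N : K) ≠ 0) :
    {z : 𝟙_ (Over (Spec (CommRingCat.of K))) ⟶ G | z ^ N = 1 ∧
      ∀ (T : Over (Spec (CommRingCat.of K))) (h : T ⟶ G), (toUnit T ≫ z) * h = h * (toUnit T ≫ z)}.Finite := by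
  obtain ⟨Z, gZ, i, hi, hcl, hcen, -⟩ := Groth.Agent.S3027.result K G
  have hmono : Mono i := by
    have : Mono i.left := inferInstance
    exact Over.mono_of_mono_left i
  have hcomm : IsCommMonObj Z := by
    constructor
    apply (cancel_mono i).1
    have h1 := (hcen (Z ⊗ Z) (fst Z Z ≫ i)).1 ⟨fst Z Z, rfl⟩ (Z ⊗ Z) (𝟙 _) (snd Z Z ≫ i)
    rw [Category.id_comp] at h1
    have h2 : μ[Z] = fst Z Z * snd Z Z := MonObj.mul_eq_mul _
    have h3 : (β_ Z Z).hom ≫ μ[Z] = snd Z Z * fst Z Z := by
      rw [h2, MonObj.comp_mul]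
      simp
    rw [h3, h2, MonObj.mul_comp, MonObj.mul_comp, h1]
  have hlft : LocallyOfFiniteType Z.hom := by
    rw [← Over.w i]; infer_instance
  have hqc : QuasiCompact Z.hom := by
    rw [← Over.w i]; infer_instance
  have het : Etale ((𝟙 Z : Z ⟶ Z) ^ N).left := by
    have h := Groth.Agent.Sga3.H792.PowFlat.etale_zpow_comm Z (d := (N : ℤ)) (by exact_mod_cast hN)
    rwa [zpow_natCast] at h
  have hqc' : QuasiCompact ((𝟙 Z : Z ⟶ Z) ^ N).left := by
    have h1 : QuasiCompact (((𝟙 Z : Z ⟶ Z) ^ N).left ≫ Z.hom) := by rw [Over.w]; infer_instance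
    have h2 : IsSeparated Z.hom := Groth.Agent.Localalg.GrpSchComp2.isSeparated_hom Z
    exact QuasiCompact.of_comp _ Z.hom
  have hlqf := locallyQuasiFinite_of_etale ((𝟙 Z : Z ⟶ Z) ^ N).left
  have hfin := Scheme.Hom.finite_preimage_singleton ((𝟙 Z : Z ⟶ Z) ^ N).left
    (pt (1 : 𝟙_ (Over (Spec (CommRingCat.of K))) ⟶ Z))
  have hfin2 : {z : 𝟙_ (Over (Spec (CommRingCat.of K))) ⟶ Z | z ^ N = 1}.Finite := by
    refine Set.Finite.of_finite_image (f := pt) (hfin.subset ?_) (fun a _ b _ h => pt_injective h)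
    rintro _ ⟨z, hz, rfl⟩
    rw [Set.mem_preimage, Set.mem_singleton_iff, ← pt_comp]
    congr 1
    rw [MonObj.comp_pow, Category.comp_id]
    exact hz
  refine (hfin2.image (fun z => z ≫ i)).subset ?_
  rintro z ⟨hz, hz'⟩
  obtain ⟨z', rfl⟩ := (hcen _ z).2 (by
    intro T' t h
    rw [toUnit_unique t (toUnit T')]
    exact hz' T' h)
  refine ⟨z', ?_, rfl⟩
  rw [Set.mem_ofPred_eq, ← cancel_mono i, MonObj.pow_comp, hz, MonObj.one_comp]

end Groth.Agent.Sga3.H813.CentralInf
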