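import Groth.Agent.Sga3B.MT.TorusFam
import Groth.Agent.Sga3B.MaxTorBc505
import Groth.Agent.Sga3B.Parab.EtHom

/-!
# Maximal tori descend along flat surjective open base changes
-/

set_option autoImplicit false

universe u

open CategoryTheory MonoidalCategory CartesianMonoidalCategory MonObj GrpObj AlgebraicGeometry Limits

namespace Groth.Agent.Sga3.H813.MaxTorDesc

open Groth.Agent.Sga3B Groth.Agent.Sga3B.TorusBc Groth.Agent.Sga3B.AlgBc Groth.Agent.Sga3B.MT
open Groth.Agent.Sga3B.Parab Groth.Agent.Sga3B.RedIso Groth.Agent.Sga3B.BcNat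

/-- A morphism over `S` is an isomorphism if its base change along a flat quasi-compact surjection is one. -/
theorem isIso_of_bc {S S' : Scheme.{u}} (θ : S' ⟶ S) [Flat θ] [Surjective θ] [QuasiCompact θ]
    {X Y : Over S} (f : X ⟶ Y) (h : IsIso ((Over.pullback θ).map f)) : IsIso f := by
  have h1 : IsIso ((Over.pullback θ).map f).left :=
    inferInstanceAs (IsIso ((Over.forget _).map ((Over.pullback θ).map f)))
  have hs : Surjective (EtHom.pr θ Y) := inferInstanceAs (Surjective (pullback.fst _ _))
  have hf : Flat (EtHom.pr θ Y) := inferInstanceAs (Flat (pullback.fst _ _))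
  have hq : QuasiCompact (EtHom.pr θ Y) := inferInstanceAs (QuasiCompact (pullback.fst _ _))
  have h2 : MorphismProperty.isomorphisms Scheme.{u} f.left := by
    refine MorphismProperty.of_isPullback_of_descendsAlong
      (P := MorphismProperty.isomorphisms Scheme.{u}) (Q := @Surjective ⊓ @Flat ⊓ @QuasiCompact)
      (EtHom.isPullback_map θ f).flip ⟨⟨hs, hf⟩, hq⟩ ?_
    exact h1
  have h3 : IsIso f.left := h2
  have h4 : IsIso ((Over.forget _).map f) := h3
  exact isIso_of_reflects_iso f (Over.forget S)

/-- The fibre condition descends along field extensions. -/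
theorem isMaxTorOver_of_bc {K K' : Type u} [Field K] [Field K']
    (θ : Spec (CommRingCat.of K') ⟶ Spec (CommRingCat.of K))
    {T G : Over (Spec (CommRingCat.of K))} [GrpObj T] [GrpObj G] {i : T ⟶ G}
    (h : IsMaxTorOver ((Over.pullback θ).map i)) : IsMaxTorOver i := by
  intro T' _ j _ _ f hT' hf
  have h1 := h _ ((Over.pullback θ).map j) ((Over.pullback θ).map f) (isTorus_bc θ hT')
    (by rw [← Functor.map_comp, hf])
  have h2 : Surjective θ := inferInstance
  have h3 : Flat θ := inferInstance
  exact isIso_of_bc θ f h1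

/-- **Maximal tori descend** along flat surjective open base changes. -/
theorem isMaximalTorus_of_bc {S S' : Scheme.{u}} (q : S' ⟶ S) [Flat q] [Surjective q]
    (hop : IsOpenMap q.base) {T G : Over S} [GrpObj T] [GrpObj G] (i : T ⟶ G) (hi : IsMonHom i) (hm : Mono i)
    (h : Red.IsMaximalTorus ((Over.pullback q).map i)) : Red.IsMaximalTorus i := by
  refine ⟨hi, hm, ?_, fun s => ?_⟩
  · exact isTorus_of_family (J := PUnit.{u+1}) (fun _ => q) (fun _ => inferInstance) (fun _ => hop)
      (fun s => ⟨PUnit.unit, q.surjective s⟩) (fun _ => h.2.2.1)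
  · obtain ⟨s', rfl⟩ := q.surjective s
    have h1 : IsMaxTorOver ((Over.pullback (Red.geomPt s')).map ((Over.pullback q).map i)) := h.2.2.2 s'
    obtain ⟨s₁, θ, hθ⟩ := Groth.Agent.Sga3B.MaxTorBc505.exists_factor_geomPt (Red.geomPt s' ≫ q)
    have hs : s₁ = q s' := by
      have h4 := congrArg (fun k => k (IsLocalRing.closedPoint (AlgebraicClosure (S'.residueField s')))) hθ
      simp only [Scheme.Hom.comp_apply] at h4
      exact (Scheme.fromSpecResidueField_apply s₁ _).symm.trans
        (h4.trans (congrArg q (Scheme.fromSpecResidueField_apply s' _)))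
    subst hs
    have h5 : IsMaxTorOver ((Over.pullback θ).map ((Over.pullback (Red.geomPt (q s'))).map i)) :=
      isMaxTorOver_of_arrow (fibIso hθ T) (fibIso hθ G) (fib_nat hθ i) h1
    exact isMaxTorOver_of_bc θ h5

end Groth.Agent.Sga3.H813.MaxTorDesc
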