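import Groth.Agent.Sga3.H828.MTMain
import Groth.Agent.Sga3.H813.PFib
import Groth.Agent.Desc.ZarGlue

/-!
# Zariski gluing of schemes of maximal tori with affine fibres
-/

set_option autoImplicit false
universe u
open CategoryTheory MonoidalCategory CartesianMonoidalCategory MonObj GrpObj AlgebraicGeometry Limits Opposite

namespace Groth.Agent.Sga3.H813.ZarGlue

open Groth.Agent.Sga3.H828.MTFun Groth.Agent.Sga3.H828.MTRep Groth.Agent.Sga3.H828.MTMain
open Groth.Agent.Desc.SecFunctor Groth.Agent.Desc.SecPresheaf Groth.Agent.Desc.SecDescent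
  Groth.Agent.Picfga.OverRep

variable {S : Scheme.{u}} {G : Over S} [GrpObj G]

/-- **Zariski gluing.** -/
theorem exists_glue (hG : Hyp G)
    (h : ∀ s : S, ∃ U : S.Opens, s ∈ U ∧ ∃ A : Over U.toScheme,
      Nonempty ((mtF (Red.bc U.ι G) (Hyp.pull U.ι hG)).RepresentableBy A) ∧ Smooth A.hom ∧
      ∀ u : U.toScheme, IsAffine (pullback A.hom (U.toScheme.fromSpecResidueField u))) :
    ∃ (𝒯 : Over S) (Tu : Over 𝒯.left) (_ : GrpObj Tu) (iu : Tu ⟶ Red.bc 𝒯.hom G),
      SGA3x.RepresentsMaxTori G 𝒯 Tu iu ∧ Smooth 𝒯.hom ∧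
      ∀ s : S, IsAffine (pullback 𝒯.hom (S.fromSpecResidueField s)) := by
  choose U hU A hA hsm haff using h
  obtain ⟨𝒯, ⟨r⟩, h𝒯⟩ := Groth.Agent.Desc.ZarGlue.exists_rep_of_openCover (F := mtF G hG) U
    (fun s => ⟨s, hU s⟩) A (fun s => (hA s).some.ofIso (restrIso (U s).ι hG).symm) (isZarSheaf_mtF hG)
  obtain ⟨Tu, gTu, iu, hr⟩ := exists_representsMaxTori hG r
  let 𝒰 : S.OpenCover := S.openCoverOfIsOpenCover (fun s => U s) (TopologicalSpace.IsOpenCover.mk (by
    rw [eq_top_iff]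
    intro s _
    exact TopologicalSpace.Opens.mem_iSup.2 ⟨s, hU s⟩))
  have hiso : ∀ s, ∃ e : pullback 𝒯.hom (U s).ι ≅ (A s).left, e.hom ≫ (A s).hom = pullback.snd 𝒯.hom (U s).ι := by
    intro s
    obtain ⟨e⟩ := h𝒯 s
    exact ⟨(Over.forget _).mapIso e, Over.w e.hom⟩
  refine ⟨𝒯, Tu, gTu, iu, hr, ?_, fun s => ?_⟩
  · rw [IsZariskiLocalAtTarget.iff_of_openCover (P := @Smooth) 𝒰]
    intro s
    obtain ⟨e, he⟩ := hiso s
    have := hsm s
    change Smooth (pullback.snd 𝒯.hom (U s).ι)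
    rw [← he]
    infer_instance
  · have h1 : H816.AffFibStage.Fib (pullback.snd 𝒯.hom (U s).ι) := by
      obtain ⟨e, he⟩ := hiso s
      have h2 : H816.AffFibStage.Fib (A s).hom := haff s
      have h3 : IsPullback e.hom (pullback.snd 𝒯.hom (U s).ι) (A s).hom (𝟙 _) :=
        IsPullback.of_horiz_isIso ⟨by rw [he, Category.comp_id]⟩
      exact h2.of_isPullback h3
    rw [H816.AffFibStage.fib_iff_of_isPullback (IsPullback.of_hasPullback _ _)] at h1
    exact (H816.AffFibStage.mem_locus_iff _ _).1 (h1 ⟨s, hU s⟩)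

end Groth.Agent.Sga3.H813.ZarGlue
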