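import Groth.Agent.Sga3.H796.LocalRep
import Groth.Agent.Sga3.H813.ZarGlue

/-!
# The scheme of maximal tori, from local data
-/

set_option autoImplicit false
universe u
open CategoryTheory MonoidalCategory CartesianMonoidalCategory MonObj GrpObj AlgebraicGeometry Limits Opposite

namespace Groth.Agent.Sga3.H813.Output

open Groth.Agent.Sga3B Groth.Agent.Sga3.H796.AbsRep Groth.Agent.Sga3.H796.Frame Groth.Agent.Sga3.H797
  Groth.Agent.Sga3.H797.HomFin Groth.Agent.Sga3.H796.Orbit Groth.Agent.Sga3.H797.Rigid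
  Groth.Agent.Sga3.H828.MTFun Groth.Agent.Sga3.H828.MTRep Groth.Agent.Sga3.H828.MTMain

variable {S : Scheme.{u}} {G : Over S} [GrpObj G]

/-- Local data for the representability of the functor of maximal tori. -/
def LocalData (G : Over S) [GrpObj G] : Prop :=
  ∃ (Y : Over S) (_ : Etale Y.hom) (_ : Surjective Y.hom) (T : Over Y.left) (_ : GrpObj T)
    (t : T ⟶ Red.bc Y.hom G), Red.IsMaximalTorus t ∧ ∃ (M : Type) (_ : AddCommGroup M),
    Red.IsSplitTorusWith M T ∧ ∃ n : ℕ, IsRigid t n ∧ ∃ (Γ : Type u) (_ : Group Γ) (_ : Finite Γ)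
    (ψ : Γ →* (𝟙_ (Over Y.left) ⟶ T)),
    (∀ (X : Over Y.left) (s : X ⟶ T), s ^ n = 1 → ∀ x : X.left,
      ∃ (X' : Over Y.left) (f : X' ⟶ X), Etale f.left ∧ x ∈ Set.range f.left ∧ ∃ γ, f ≫ s = toUnit X' ≫ ψ γ) ∧
    (∀ (X : Over Y.left), Nonempty X.left → ∀ γ : Γ, toUnit X ≫ ψ γ = 1 → γ = 1) ∧
    (∀ γ : Γ, γ ^ n = 1) ∧ Inv (Nat.card Γ) S

theorem exists_of_localData (hG : Hyp G) [Smooth G.hom] [IsSeparated G.hom] [QuasiCompact G.hom]
    (hconn : ∀ (K : Type u) [Field K] (t : Spec (CommRingCat.of K) ⟶ S), ConnectedSpace (Red.bc t G).left)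
    (h : LocalData G) :
    ∃ A : Over S, Nonempty ((mtF G hG).RepresentableBy A) ∧ Smooth A.hom ∧
      ∀ s : S, IsAffine (pullback A.hom (S.fromSpecResidueField s)) := by
  obtain ⟨Y, hY1, hY2, T, _, t, ht, M, _, hsp, n, hr, Γ, _, _, ψ, h1, h2, h3, h4⟩ := h
  obtain ⟨H, υ, hH, _, φ, A, p, hA, hp1, hp2, hp3, hsm⟩ :=
    H796.LocalRep.exists_rep_local hG (fun K _ _ t => hconn K t) t ht hsp hr ψ h1 h2 h3 h4
  refine ⟨A, hA, hsm, fun s => ?_⟩
  have := hconn (S.residueField s) (S.fromSpecResidueField s)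
  exact PFib.isAffine_fibre_M (k := S.residueField s) hH h4 φ (S.fromSpecResidueField s) p

theorem output [Smooth G.hom] [IsSeparated G.hom] [QuasiCompact G.hom]
    (hconn : ∀ (K : Type u) [Field K] (t : Spec (CommRingCat.of K) ⟶ S), ConnectedSpace (Red.bc t G).left)
    (hG : Hyp G)
    (h : ∀ s : S, ∃ V : S.Opens, s ∈ V ∧ LocalData (Red.bc V.ι G)) :
    ∃ (𝒯 : Over S) (Tu : Over 𝒯.left) (_ : GrpObj Tu) (iu : Tu ⟶ Red.bc 𝒯.hom G),
      SGA3x.RepresentsMaxTori G 𝒯 Tu iu ∧ Smooth 𝒯.hom ∧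
      ∀ s : S, IsAffine (pullback 𝒯.hom (S.fromSpecResidueField s)) := by
  refine ZarGlue.exists_glue hG fun s => ?_
  obtain ⟨V, hV, hd⟩ := h s
  have h1 : Smooth (Red.bc V.ι G).hom := inferInstanceAs (Smooth (pullback.snd G.hom V.ι))
  have h2 : IsSeparated (Red.bc V.ι G).hom := inferInstanceAs (IsSeparated (pullback.snd G.hom V.ι))
  have h3 : QuasiCompact (Red.bc V.ι G).hom := inferInstanceAs (QuasiCompact (pullback.snd G.hom V.ι))
  refine ⟨V, hV, exists_of_localData (Hyp.pull V.ι hG) (fun K _ t => ?_) hd⟩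
  have h4 := hconn K (t ≫ V.ι)
  have e : (Red.bc t (Red.bc V.ι G)).left ≅ (Red.bc (t ≫ V.ι) G).left :=
    (Over.forget _).mapIso ((Over.pullbackComp t V.ι).symm.app G)
  exact (Scheme.homeoOfIso e).symm.surjective.connectedSpace (Scheme.homeoOfIso e).symm.continuous

end Groth.Agent.Sga3.H813.Output
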