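import Groth.Agent.Sga3.H813.AdN
import Groth.Agent.Sga3.H813.CentralInf
import Groth.Agent.Sga3C.InfNbhd
import Mathlib.AlgebraicGeometry.QuasiAffine
import Mathlib.AlgebraicGeometry.ZariskisMainTheorem

/-!
# Families of torsion points of a group scheme are quasi-affine

`G` is a smooth separated group scheme with connected fibres over an affine base `Spec R`, `X` a separated scheme of
finite type over `Spec R` with finitely many points `x i : X ⟶ G` of order dividing an integer `N` invertible in `R`,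
which jointly determine a point of `X`.  Then `X` is quasi-affine.
-/

set_option autoImplicit false

universe u

open CategoryTheory MonoidalCategory CartesianMonoidalCategory AlgebraicGeometry Limits MonObj

namespace Groth.Agent.Sga3.H813.QA

open Sga3B.GLn Sga3B.FreeBC Sga3B.LinRep Sga3B.AdRep Sga3B.BcPts AdN CentralInf

section central

variable {R B : Type u} [CommRing R] [CommRing B] [Algebra R B]
  {G : Over (Spec (CommRingCat.of R))} [GrpObj G] [QuasiCompact G.hom] [IsSeparated G.hom]
  (w : DE R B ⟶ G) [IsOpenImmersion w.left]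
  (eW : 𝟙_ (Over (Spec (CommRingCat.of R))) ⟶ DE R B) (heW : eW ≫ w = η)

include heW in
/-- If two points of `G` have the same global functions, their quotient commutes with the infinitesimal
neighbourhoods of the unit. -/
theorem comm_of_appTop_eq (n : ℕ) (hn : n ≠ 0) (hfree : Module.Free R (B ⧸ augIdeal eW ^ n))
    (hfin : Module.Finite R (B ⧸ augIdeal eW ^ n)) {T : Over (Spec (CommRingCat.of R))} (u v : T ⟶ G)
    (h : u.left.appTop = v.left.appTop) (X : Over (Spec (CommRingCat.of R))) (p : X ⟶ T)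
    (d : X ⟶ DE R (B ⧸ augIdeal eW ^ n)) :
    (p ≫ (u⁻¹ * v)) * (d ≫ quotMap _ ≫ w) * (p ≫ (u⁻¹ * v))⁻¹ = d ≫ quotMap _ ≫ w := by
  classical
  have hc : CompactSpace G.left := (quasiCompact_iff_compactSpace _).mp ‹QuasiCompact G.hom›
  have hs : G.left.IsSeparated := ⟨by
    rw [← terminal.comp_from G.hom]
    infer_instance⟩
  let b := Module.Free.chooseBasis R (B ⧸ augIdeal eW ^ n)
  obtain ⟨f, hf, hker⟩ := exists_adRep n hn w eW heW b
  have h1 : u ≫ f = v ≫ f := by
    apply mat_injective
    rw [mat_comp, mat_comp]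
    ext i j
    rw [pull_apply, pull_apply, h]
  refine (hker (u⁻¹ * v)).1 ?_ X p d
  rw [MonObj.mul_comp, GrpObj.inv_comp, h1, inv_mul_cancel]

include heW in
/-- If two geometric points of `G` have the same global functions, their quotient is central. -/
theorem central_of_appTop_eq [LocallyOfFiniteType G.hom]
    (hfree : ∀ n, Module.Free R (B ⧸ augIdeal eW ^ n))
    (hfin : ∀ n, Module.Finite R (B ⧸ augIdeal eW ^ n)) {K : Type u} [Field K]
    (t : Spec (CommRingCat.of K) ⟶ Spec (CommRingCat.of R)) [ConnectedSpace (Red.bc t G).left]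
    (u v : (Over.map t).obj (𝟙_ (Over (Spec (CommRingCat.of K)))) ⟶ G)
    (h : u.left.appTop = v.left.appTop) (T : Over (Spec (CommRingCat.of K))) (g : T ⟶ Red.bc t G) :
    (toUnit T ≫ bcMulEquiv t _ G (u⁻¹ * v)) * g = g * (toUnit T ≫ bcMulEquiv t _ G (u⁻¹ * v)) := by
  have hlft : LocallyOfFiniteType (Red.bc t G).hom :=
    inferInstanceAs (LocallyOfFiniteType (pullback.snd _ _))
  have hqc : QuasiCompact (Red.bc t G).hom := inferInstanceAs (QuasiCompact (pullback.snd _ _))
  obtain ⟨A, _, _, wK, eK, hwK, heK, -⟩ := Sga3C.InfNbhd.exists_affine_nbhd K (Red.bc t G) η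
  have : LocallyOfFiniteType (𝟙_ (Over (Spec (CommRingCat.of K)))).hom :=
    inferInstanceAs (LocallyOfFiniteType (𝟙 _))
  refine central_of_forall K (Red.bc t G) wK eK heK (𝟙_ _) (bcMulEquiv t _ G (u⁻¹ * v))
    (fun n X p d => ?_) T (toUnit T) g
  have h1 := centralizes_bc (n + 1) (Nat.succ_ne_zero n) w eW heW (u⁻¹ * v)
    (comm_of_appTop_eq w eW heW (n + 1) (Nat.succ_ne_zero n) (hfree _) (hfin _) u v h) t wK eK heK X
    ((Over.map t).map p) d
  have h2 : bcMulEquiv t X G ((Over.map t).map p ≫ (u⁻¹ * v)) = p ≫ bcMulEquiv t _ G (u⁻¹ * v) :=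
    comp_bcEquiv t p _
  rw [h2] at h1
  exact h1

include heW in
/-- Geometric points of a family of torsion points with given global functions are finite in number. -/
theorem finite_pts [LocallyOfFiniteType G.hom]
    (hfree : ∀ n, Module.Free R (B ⧸ augIdeal eW ^ n))
    (hfin : ∀ n, Module.Finite R (B ⧸ augIdeal eW ^ n)) {X : Over (Spec (CommRingCat.of R))}
    {J : Type*} [Finite J] (x : J → (X ⟶ G)) (N : ℕ) (hN : IsUnit (N : R)) (hx : ∀ i, x i ^ N = 1)
    {K : Type u} [Field K] [IsAlgClosed K]
    (t : Spec (CommRingCat.of K) ⟶ Spec (CommRingCat.of R)) [ConnectedSpace (Red.bc t G).left]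
    (hinj : ∀ a b : (Over.map t).obj (𝟙_ (Over (Spec (CommRingCat.of K)))) ⟶ X,
      (∀ i, a ≫ x i = b ≫ x i) → a = b)
    (s : Set ((Over.map t).obj (𝟙_ (Over (Spec (CommRingCat.of K)))) ⟶ X))
    (hs : ∀ a ∈ s, ∀ b ∈ s, a.left.appTop = b.left.appTop) : s.Finite := by
  obtain rfl | ⟨a₀, ha₀⟩ := s.eq_empty_or_nonempty
  · exact Set.finite_empty
  have hlft : LocallyOfFiniteType (Red.bc t G).hom :=
    inferInstanceAs (LocallyOfFiniteType (pullback.snd _ _))
  have hqc : QuasiCompact (Red.bc t G).hom := inferInstanceAs (QuasiCompact (pullback.snd _ _))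
  have hNK : (N : K) ≠ 0 := by
    let φ : CommRingCat.of R ⟶ CommRingCat.of K := Spec.preimage t
    have h1 : IsUnit (φ.hom (N : R)) := hN.map φ.hom
    rw [map_natCast] at h1
    exact h1.ne_zero
  let F := {z : 𝟙_ (Over (Spec (CommRingCat.of K))) ⟶ Red.bc t G | z ^ N = 1 ∧
      ∀ (T : Over (Spec (CommRingCat.of K))) (h : T ⟶ Red.bc t G),
        (toUnit T ≫ z) * h = h * (toUnit T ≫ z)}
  have hF : F.Finite := finite_central_torsion K (Red.bc t G) N hNK
  have : Finite F := hF
  have hmem : ∀ a ∈ s, ∀ i, bcMulEquiv t _ G ((a₀ ≫ x i)⁻¹ * (a ≫ x i)) ∈ F := by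
    intro a ha i
    have hcen := central_of_appTop_eq w eW heW hfree hfin t (a₀ ≫ x i) (a ≫ x i) (by
      rw [Over.comp_left, Over.comp_left, Scheme.Hom.comp_appTop, Scheme.Hom.comp_appTop, hs a₀ ha₀ a ha])
    refine ⟨?_, hcen⟩
    set z := bcMulEquiv t _ G ((a₀ ≫ x i)⁻¹ * (a ≫ x i)) with hz
    have h1 : bcMulEquiv t _ G (a ≫ x i) = bcMulEquiv t _ G (a₀ ≫ x i) * z := by
      rw [hz, map_mul, map_inv]
      group
    have h2 : Commute (bcMulEquiv t _ G (a₀ ≫ x i)) z := by
      have := hcen (𝟙_ _) (bcMulEquiv t _ G (a₀ ≫ x i))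
      rw [toUnit_unique (toUnit (𝟙_ (Over (Spec (CommRingCat.of K))))) (𝟙 _), Category.id_comp] at this
      exact this.symm
    have h3 := h2.mul_pow N
    rw [← h1, ← map_pow, ← map_pow, ← MonObj.comp_pow, ← MonObj.comp_pow, hx, MonObj.comp_one,
      MonObj.comp_one, map_one, _root_.one_mul] at h3
    exact h3.symm
  let Φ : s → (J → F) := fun a i => ⟨_, hmem a.1 a.2 i⟩
  have hΦ : Function.Injective Φ := by
    rintro ⟨a, ha⟩ ⟨b, hb⟩ hab
    have : a = b := by
      refine hinj a b fun i => ?_
      have h1 := congrArg (fun k => (k i).1) hab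
      have h2 := (bcMulEquiv t _ G).injective h1
      exact mul_left_cancel h2
    subst this
    rfl
  exact Finite.of_injective Φ hΦ

end central

section finite

variable {K : Type u} [Field K] [IsAlgClosed K]

open Groth.Agent.Books.AlgPts in
/-- A scheme locally of finite type over an algebraically closed field with finitely many rational points is finite. -/
theorem finite_of_finite_pts (Y : Over (Spec (CommRingCat.of K))) [LocallyOfFiniteType Y.hom]
    [Finite (𝟙_ (Over (Spec (CommRingCat.of K))) ⟶ Y)] : Finite Y.left := by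
  have h1 : (Set.range (pt : (𝟙_ (Over (Spec (CommRingCat.of K))) ⟶ Y) → Y.left)).Finite :=
    Set.finite_range _
  have h2 : IsClosed (Set.range (pt : (𝟙_ (Over (Spec (CommRingCat.of K))) ⟶ Y) → Y.left)) := by
    have : Set.range (pt : (𝟙_ (Over (Spec (CommRingCat.of K))) ⟶ Y) → Y.left) = ⋃ x, {pt x} := by
      ext y
      simp [eq_comm]
    rw [this]
    exact isClosed_iUnion_of_finite fun x => isClosed_pt x
  have h3 : Set.range (pt : (𝟙_ (Over (Spec (CommRingCat.of K))) ⟶ Y) → Y.left) = Set.univ := by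
    by_contra hne
    obtain ⟨x, hx⟩ := exists_pt_mem (X := Y) (U := (Set.range pt)ᶜ)
      (Set.nonempty_compl.mpr hne) h2.isOpen_compl.isLocallyClosed
    exact hx ⟨x, rfl⟩
  rw [h3] at h1
  exact Set.finite_univ_iff.mp h1

end finite

section main

variable {R B : Type u} [CommRing R] [CommRing B] [Algebra R B]
  {G : Over (Spec (CommRingCat.of R))} [GrpObj G] [QuasiCompact G.hom] [IsSeparated G.hom]
  [LocallyOfFiniteType G.hom]
  (w : DE R B ⟶ G) [IsOpenImmersion w.left]
  (eW : 𝟙_ (Over (Spec (CommRingCat.of R))) ⟶ DE R B) (heW : eW ≫ w = η)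
  (hfree : ∀ n, Module.Free R (B ⧸ augIdeal eW ^ n))
  (hfin : ∀ n, Module.Finite R (B ⧸ augIdeal eW ^ n))
  (hconn : ∀ (K : Type u) [Field K] [IsAlgClosed K] (t : Spec (CommRingCat.of K) ⟶ Spec (CommRingCat.of R)),
    ConnectedSpace (Red.bc t G).left)
  {X : Over (Spec (CommRingCat.of R))} [LocallyOfFiniteType X.hom] [QuasiCompact X.hom]
  {J : Type*} [Finite J] (x : J → (X ⟶ G)) (N : ℕ) (hN : IsUnit (N : R)) (hx : ∀ i, x i ^ N = 1)
  (hinj : ∀ (K : Type u) [Field K] [IsAlgClosed K] (t : Spec (CommRingCat.of K) ⟶ Spec (CommRingCat.of R))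
    (a b : (Over.map t).obj (𝟙_ (Over (Spec (CommRingCat.of K)))) ⟶ X), (∀ i, a ≫ x i = b ≫ x i) → a = b)

include heW hfree hfin hconn hN hx hinj in
/-- The canonical morphism to the spectrum of global functions is quasi-finite. -/
theorem locallyQuasiFinite_toSpecΓ : LocallyQuasiFinite X.left.toSpecΓ := by
  let π := X.left.toSpecΓ
  let ρ : Spec Γ(X.left, ⊤) ⟶ Spec (CommRingCat.of R) :=
    Spec.map X.hom.appTop ≫ inv (Spec (CommRingCat.of R)).toSpecΓ
  have hρ : π ≫ ρ = X.hom := by
    change π ≫ Spec.map X.hom.appTop ≫ inv (Spec (CommRingCat.of R)).toSpecΓ = X.hom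
    rw [← Category.assoc, ← Scheme.toSpecΓ_naturality, Category.assoc, IsIso.hom_inv_id]
    exact Category.comp_id _
  have hlft : LocallyOfFiniteType π := by
    have : LocallyOfFiniteType (π ≫ ρ) := by rw [hρ]; infer_instance
    exact locallyOfFiniteType_of_comp π ρ
  refine LocallyQuasiFinite.of_finite_preimage_singleton π fun a => ?_
  let K := AlgebraicClosure ((Spec Γ(X.left, ⊤)).residueField a)
  let α : Spec (CommRingCat.of K) ⟶ Spec Γ(X.left, ⊤) := Red.geomPt a
  let t : Spec (CommRingCat.of K) ⟶ Spec (CommRingCat.of R) := α ≫ ρ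
  let Y : Over (Spec (CommRingCat.of K)) := Over.mk (pullback.snd π α)
  have hYl : LocallyOfFiniteType Y.hom := inferInstanceAs (LocallyOfFiniteType (pullback.snd _ _))
  have := hconn K t
  let s : Set ((Over.map t).obj (𝟙_ (Over (Spec (CommRingCat.of K)))) ⟶ X) := {a | a.left ≫ π = α}
  have hs : s.Finite := by
    refine finite_pts w eW heW hfree hfin x N hN hx t (hinj K t) s ?_
    intro a ha b hb
    have h1 : a.left ≫ π = b.left ≫ π := ha.trans hb.symm
    have h2 := congrArg (fun k => Scheme.Hom.appTop k) h1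
    simp only [Scheme.Hom.comp_appTop] at h2
    have h3 : IsIso π.appTop := by
      change IsIso X.left.toSpecΓ.appTop
      rw [Scheme.toSpecΓ_appTop]
      infer_instance
    exact (cancel_epi π.appTop).1 h2
  have hfs : Finite s := hs
  have hfY : Finite (𝟙_ (Over (Spec (CommRingCat.of K))) ⟶ Y) := by
    let Ψ : (𝟙_ (Over (Spec (CommRingCat.of K))) ⟶ Y) → s := fun y =>
      ⟨Over.homMk (y.left ≫ pullback.fst π α) (by
        have h1 : y.left ≫ pullback.snd π α = 𝟙 _ := Over.w y
        rw [Category.assoc, ← hρ, ← Category.assoc (pullback.fst π α), pullback.condition,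
          Category.assoc, ← Category.assoc, h1]
        simp [t]), by
        have h1 : y.left ≫ pullback.snd π α = 𝟙 _ := Over.w y
        change (y.left ≫ pullback.fst π α) ≫ π = α
        rw [Category.assoc, pullback.condition, ← Category.assoc, h1]
        exact Category.id_comp _⟩
    refine Finite.of_injective Ψ fun y z hyz => ?_
    have h1 := congrArg (fun k => k.1.left) hyz
    ext1
    apply pullback.hom_ext
    · exact h1
    · exact (Over.w y).trans (Over.w z).symm
  have hfin' : Finite Y.left := finite_of_finite_pts Y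
  have hfin'' : Finite ↥(pullback π α) := hfin'
  refine (Set.finite_range (pullback.fst π α)).subset ?_
  intro p hp
  have hp' : π p = α (IsLocalRing.closedPoint K) := by
    rw [hp]
    exact (Scheme.fromSpecResidueField_apply a _).symm
  obtain ⟨z, hz, -⟩ := Scheme.Pullback.exists_preimage_pullback (f := π) (g := α) p _ hp'
  exact ⟨z, hz⟩

include heW hfree hfin hconn hN hx hinj in
/-- **Families of torsion points are quasi-affine.** -/
theorem isQuasiAffine [IsSeparated X.hom] : X.left.IsQuasiAffine := by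
  have hc : CompactSpace X.left := (quasiCompact_iff_compactSpace _).mp ‹QuasiCompact X.hom›
  have hsep : X.left.IsSeparated := ⟨by
    rw [← terminal.comp_from X.hom]
    infer_instance⟩
  have h1 := locallyQuasiFinite_toSpecΓ w eW heW hfree hfin hconn x N hN hx hinj
  have hlft : LocallyOfFiniteType X.left.toSpecΓ := by
    have h2 : X.left.toSpecΓ ≫ Spec.map X.hom.appTop = X.hom ≫ (Spec (CommRingCat.of R)).toSpecΓ :=
      (Scheme.toSpecΓ_naturality _).symm
    have : LocallyOfFiniteType (X.left.toSpecΓ ≫ Spec.map X.hom.appTop) := by rw [h2]; infer_instance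
    exact locallyOfFiniteType_of_comp X.left.toSpecΓ (Spec.map X.hom.appTop)
  have hsep' : IsSeparated X.left.toSpecΓ := inferInstance
  have hqc' : QuasiCompact X.left.toSpecΓ := inferInstance
  have hna : IsAffine X.left.toSpecΓ.normalization :=
    isAffine_of_isAffineHom X.left.toSpecΓ.fromNormalization
  exact Scheme.IsQuasiAffine.of_isImmersion X.left.toSpecΓ.toNormalization

end main

end Groth.Agent.Sga3.H813.QA
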