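import Groth.Agent.Redsub.H649.ConjLoc
import Groth.Agent.Sga3B.MT.Descend
import Groth.Agent.Sga3.H813.MaxTorDesc
import Groth.Prelude.Def_SGA3x
import Mathlib.AlgebraicGeometry.Sites.Fpqc

/-!
# Representability of the functor of maximal tori by a quotient of `G`
-/

set_option autoImplicit false

universe u

open CategoryTheory MonoidalCategory CartesianMonoidalCategory MonObj GrpObj AlgebraicGeometry Limits

namespace Groth.Agent.Sga3.H813.RepCrit

open Groth.Agent.Sga3B Groth.Agent.Sga3B.BcPts Groth.Agent.Sga3B.MT Groth.Agent.Sga3B.Parab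
open Groth.Agent.Redsub.H649.ConjPts Groth.Agent.Redsub.H649.ConjLoc

variable {S S' : Scheme.{u}} {f : S' ⟶ S} {G : Over S}

/-- Points of a subscheme descend along flat surjections locally of finite presentation. -/
lemma Pt.of_cover {H : Over S'} {h : H ⟶ Red.bc f G} [Mono h] {X X' : Scheme.{u}} {y : X ⟶ S'}
    {γ : X ⟶ G.left} (c : X' ⟶ X) [Flat c] [Surjective c] [LocallyOfFinitePresentation c]
    (w : γ ≫ G.hom = y ≫ f) (H₁ : Pt h (c ≫ y) (c ≫ γ)) : Pt h y γ := by
  obtain ⟨p, hp1, hp2⟩ := H₁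
  have hm : Mono h.left := inferInstance
  have hc : Epi c := Flat.epi_of_flat_of_surjective c
  have hh : h.left ≫ pullback.snd G.hom f = H.hom := Over.w h
  have key : p ≫ h.left = c ≫ pullback.lift γ y w := by
    apply pullback.hom_ext
    · rw [Category.assoc, Category.assoc, pullback.lift_fst, hp2]
    · rw [Category.assoc, Category.assoc, pullback.lift_snd, hh, hp1]
  have h1 : ∀ {Z : Scheme.{u}} (g₁ g₂ : Z ⟶ X'), g₁ ≫ c = g₂ ≫ c → g₁ ≫ p = g₂ ≫ p := by
    intro Z g₁ g₂ hg
    rw [← cancel_mono h.left, Category.assoc, Category.assoc, key, ← Category.assoc, hg, Category.assoc]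
  refine ⟨EffectiveEpi.desc c p h1, ?_, ?_⟩
  · rw [← cancel_epi c, ← Category.assoc, EffectiveEpi.fac, hp1]
  · rw [← cancel_epi c, ← Category.assoc, EffectiveEpi.fac, hp2]

lemma Pt.comp {H : Over S'} {h : H ⟶ Red.bc f G} {X X' : Scheme.{u}} {y : X ⟶ S'}
    {γ : X ⟶ G.left} (c : X' ⟶ X) (H₁ : Pt h y γ) : Pt h (c ≫ y) (c ≫ γ) := by
  obtain ⟨p, hp1, hp2⟩ := H₁
  exact ⟨c ≫ p, by rw [Category.assoc, hp1], by rw [Category.assoc, hp2]⟩

section Dict

variable {H : Over S'} (h : H ⟶ Red.bc f G) (M : Over S) {K : Over M.left} (k : K ⟶ Red.bc M.hom G)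
  (v : S' ⟶ M.left)

/-- Equality of points gives an isomorphism. -/
lemma exists_iso_of_pt [Mono h] [Mono k]
    (hpt : ∀ (X : Scheme.{u}) (y : X ⟶ S') (γ : X ⟶ G.left), Pt h y γ ↔ Pt k (y ≫ v) γ) :
    ∃ φ : H.left ≅ (Red.bc v K).left, φ.hom ≫ (Red.bc v K).hom = H.hom ∧
      φ.hom ≫ ((Over.pullback v).map k).left ≫ pullback.fst (Red.bc M.hom G).hom v ≫
        pullback.fst G.hom M.hom = h.left ≫ pullback.fst G.hom f := by
  have hmh : Mono h.left := inferInstance
  have hmk : Mono k.left := inferInstance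
  have hh : h.left ≫ pullback.snd G.hom f = H.hom := Over.w h
  have hk : k.left ≫ pullback.snd G.hom M.hom = K.hom := Over.w k
  have hpb : ((Over.pullback v).map k).left ≫ pullback.fst (Red.bc M.hom G).hom v =
      pullback.fst K.hom v ≫ k.left := (EtHom.isPullback_map v k).w.symm
  obtain ⟨a, ha1, ha2⟩ := (hpt H.left H.hom (h.left ≫ pullback.fst G.hom f)).1
    ⟨𝟙 _, Category.id_comp _, Category.id_comp _⟩
  obtain ⟨b, hb1, hb2⟩ := (hpt (pullback K.hom v) (pullback.snd K.hom v)
    (pullback.fst K.hom v ≫ k.left ≫ pullback.fst G.hom M.hom)).2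
    ⟨pullback.fst K.hom v, pullback.condition, rfl⟩
  have e1 : pullback.lift a H.hom ha1 ≫ b = 𝟙 _ := by
    rw [← cancel_mono h.left]
    apply pullback.hom_ext
    · rw [Category.id_comp, Category.assoc, Category.assoc, hb2, ← Category.assoc, pullback.lift_fst, ha2]
    · rw [Category.id_comp, Category.assoc, Category.assoc, hh, hb1, pullback.lift_snd]
  have e2 : b ≫ pullback.lift a H.hom ha1 = 𝟙 _ := by
    apply pullback.hom_ext
    · rw [Category.assoc, pullback.lift_fst, Category.id_comp, ← cancel_mono k.left]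
      apply pullback.hom_ext
      · rw [Category.assoc, Category.assoc, Category.assoc, ha2, hb2]
      · rw [Category.assoc, Category.assoc, Category.assoc, hk, ha1, ← Category.assoc, hb1,
          pullback.condition]
    · rw [Category.assoc, pullback.lift_snd, Category.id_comp, hb1]
  refine ⟨⟨pullback.lift a H.hom ha1, b, e1, e2⟩, ?_, ?_⟩
  · exact pullback.lift_snd _ _ _
  · change pullback.lift a H.hom ha1 ≫ _ = _
    rw [← Category.assoc ((Over.pullback v).map k).left, hpb, Category.assoc, ← Category.assoc,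
      pullback.lift_fst, ha2]

/-- Conversely, an isomorphism gives equality of points. -/
lemma pt_iff_of_iso (φ : H.left ≅ (Red.bc v K).left)
    (h1 : φ.hom ≫ (Red.bc v K).hom = H.hom)
    (h2 : φ.hom ≫ ((Over.pullback v).map k).left ≫ pullback.fst (Red.bc M.hom G).hom v ≫
        pullback.fst G.hom M.hom = h.left ≫ pullback.fst G.hom f)
    (X : Scheme.{u}) (y : X ⟶ S') (γ : X ⟶ G.left) : Pt h y γ ↔ Pt k (y ≫ v) γ := by
  have hpb : ((Over.pullback v).map k).left ≫ pullback.fst (Red.bc M.hom G).hom v =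
      pullback.fst K.hom v ≫ k.left := (EtHom.isPullback_map v k).w.symm
  have h1' : φ.hom ≫ pullback.snd K.hom v = H.hom := h1
  have h2' : φ.hom ≫ pullback.fst K.hom v ≫ k.left ≫ pullback.fst G.hom M.hom =
      h.left ≫ pullback.fst G.hom f := by
    rw [← h2, ← Category.assoc ((Over.pullback v).map k).left, hpb, Category.assoc]
  constructor
  · rintro ⟨p, rfl, rfl⟩
    refine ⟨p ≫ φ.hom ≫ pullback.fst K.hom v, ?_, ?_⟩
    · rw [Category.assoc, Category.assoc, pullback.condition, ← Category.assoc φ.hom, h1',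
        Category.assoc]
    · rw [← h2']
      simp only [Category.assoc]
  · rintro ⟨p, hp1, rfl⟩
    refine ⟨pullback.lift p y hp1 ≫ φ.inv, ?_, ?_⟩
    · rw [← h1', Category.assoc, Iso.inv_hom_id_assoc, pullback.lift_snd]
    · rw [← h2', Category.assoc, Iso.inv_hom_id_assoc, ← Category.assoc, pullback.lift_fst]

end Dict

section Univ

variable [GrpObj G] {T : Over S} (i : T ⟶ G) {M : Over S} (q : G ⟶ M)

/-- Two points of `G` have the same image under `q` if and only if they define the same conjugate of `i`. -/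
def EQ : Prop := ∀ (X : Over S) (a b : X ⟶ G), a ≫ q = b ≫ q ↔
  ∀ (Y : Over S) (y : Y ⟶ X) (γ : Y ⟶ G), InC i (y ≫ a) γ ↔ InC i (y ≫ b) γ

/-- The subscheme `i'` of `bc f G` becomes the conjugate of `i` by `g` over `p`. -/
def ConjTo {T' : Over S'} (i' : T' ⟶ Red.bc f G) {S'' : Scheme.{u}} (p : S'' ⟶ S')
    (g : Over.mk (p ≫ f) ⟶ G) : Prop :=
  ∀ (X : Over S) (a : X ⟶ Over.mk (p ≫ f)) (γ : X ⟶ G), InC i (a ≫ g) γ ↔ Pt i' (a.left ≫ p) γ.left

lemma InC.comp {X X' : Over S} {a γ : X ⟶ G} (h : InC i a γ) (c : X' ⟶ X) : InC i (c ≫ a) (c ≫ γ) := by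
  obtain ⟨x, hx⟩ := h
  refine ⟨c ≫ x, ?_⟩
  rw [Category.assoc, hx]
  simp only [MonObj.comp_mul, GrpObj.comp_inv]

/-- the tautological point of `bc M.hom G` over `G` -/
noncomputable def g₀ : Over.mk q.left ⟶ Red.bc M.hom G :=
  bcPt (f := M.hom) (Over.homMk q.left (Over.w q) : G ⟶ Over.mk M.hom) (𝟙 G)

/-- the universal family of conjugates, over `G` -/
noncomputable def uf : Red.bc q.left (Red.bc M.hom T) ⟶ Red.bc q.left (Red.bc M.hom G) :=
  fam (S := M.left) (f := q.left) ((Over.pullback M.hom).map i) (g₀ q)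

omit [GrpObj G] in
lemma bcEquiv_symm_g₀ : ((bcEquiv M.hom (Over.mk q.left) G).symm (g₀ q)).left = 𝟙 _ := by
  have h : (bcEquiv M.hom (Over.mk q.left) G).symm (g₀ q) =
      (overIso (Over.homMk q.left (Over.w q) : G ⟶ Over.mk M.hom)).hom ≫ 𝟙 G :=
    Equiv.symm_apply_apply _ _
  rw [h]
  exact Category.comp_id _

lemma memAt_uf {X : Over M.left} (a : X ⟶ Over.mk q.left) (γ : X ⟶ Red.bc M.hom G)
    (α : (Over.map M.hom).obj X ⟶ G) (hα : α.left = a.left) :
    MemAt (uf i q) a γ ↔ InC i α ((bcEquiv M.hom X G).symm γ) := by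
  have h1 : a ≫ g₀ q = bcEquiv M.hom X G α := by
    rw [← Equiv.symm_apply_eq, comp_bcEquiv_symm]
    ext1
    rw [Over.comp_left, bcEquiv_symm_g₀, hα]
    exact Category.comp_id _
  have h2 : γ = bcEquiv M.hom X G ((bcEquiv M.hom X G).symm γ) := (Equiv.apply_symm_apply _ _).symm
  rw [uf, memAt_fam, h1]
  conv_lhs => rw [h2]
  rw [inC_bc_iff]

/-- a point of `Over.mk q.left` seen as a point of `G` -/
noncomputable def ptG {X : Over M.left} (a : X ⟶ Over.mk q.left) : (Over.map M.hom).obj X ⟶ G :=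
  Over.homMk a.left (by
    have h1 : a.left ≫ q.left = X.hom := Over.w a
    have h2 : q.left ≫ M.hom = G.hom := Over.w q
    rw [← h2, ← Category.assoc, h1]
    rfl)

omit [GrpObj G] in
lemma ptG_comp {X : Over M.left} (a b : X ⟶ Over.mk q.left) : ptG q a ≫ q = ptG q b ≫ q := by
  ext1
  have h1 : a.left ≫ q.left = X.hom := Over.w a
  have h2 : b.left ≫ q.left = X.hom := Over.w b
  exact h1.trans h2.symm

lemma compat_uf (hEQ : EQ i q) : Compat (J := PUnit.{u+1}) (fun _ => uf i q) := by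
  intro _ _ X a b γ h
  rw [memAt_uf i q a γ (ptG q a) rfl] at h
  rw [memAt_uf i q b γ (ptG q b) rfl]
  have h1 := (hEQ _ (ptG q a) (ptG q b)).1 (ptG_comp q a b) _ (𝟙 _) ((bcEquiv M.hom X G).symm γ)
  rw [Category.id_comp, Category.id_comp] at h1
  exact h1.1 h

lemma isClosedImmersion_uf [IsClosedImmersion i.left] : IsClosedImmersion (uf i q).left := by
  have h1 : IsClosedImmersion ((Over.pullback M.hom).map i).left :=
    MorphismProperty.of_isPullback (EtHom.isPullback_map M.hom i) ‹_›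
  have h2 : IsClosedImmersion ((Over.pullback q.left).map ((Over.pullback M.hom).map i)).left :=
    MorphismProperty.of_isPullback (EtHom.isPullback_map q.left _) h1
  exact isClosedImmersion_comp_cj _ _

lemma isMonHom_uf [GrpObj T] [IsMonHom i] : IsMonHom (uf i q) := by
  rw [uf, Groth.Agent.Redsub.H649.ConjPts.fam]
  infer_instance

lemma isMaximalTorus_uf [GrpObj T] 
    (hbc : ∀ {X : Scheme.{u}} (x : X ⟶ S), Red.IsMaximalTorus ((Over.pullback x).map i)) :
    Red.IsMaximalTorus (uf i q) := by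
  have h := hbc M.hom
  refine isMaximalTorus_comp_cj _ _ ?_
  exact AlgBc.isMaximalTorus_of_arrow (BcIso.bcCompIso q.left M.hom T) (BcIso.bcCompIso q.left M.hom G)
    (BcNat.comp_nat q.left M.hom i).symm (hbc (q.left ≫ M.hom))

/-- **The universal family of conjugates** descends to `M`. -/
theorem exists_univ [GrpObj T] [IsMonHom i] [IsClosedImmersion i.left] [Flat q.left] [LocallyOfFinitePresentation q.left] [Surjective q.left]
    (hEQ : EQ i q) (hbc : ∀ {X : Scheme.{u}} (x : X ⟶ S), Red.IsMaximalTorus ((Over.pullback x).map i)) :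
    ∃ (P : Over M.left) (_ : GrpObj P) (p : P ⟶ Red.bc M.hom G), IsClosedImmersion p.left ∧
      Red.IsMaximalTorus p ∧ ∀ (X : Over S) (g γ : X ⟶ G), Pt p (g.left ≫ q.left) γ.left ↔ InC i g γ := by
  have h1 := isClosedImmersion_uf i q
  have h2 := isMonHom_uf i q
  obtain ⟨P, hP, p, hp, hpc, he⟩ := exists_closed_subgroup_of_family (J := PUnit.{u+1})
    (f := fun _ => q.left) ⟨fun _ => inferInstance, fun _ => inferInstance,
      fun s => ⟨PUnit.unit, q.left.surjective s⟩⟩ (fun _ => uf i q) (compat_uf i q hEQ)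
  obtain ⟨e, he⟩ := he PUnit.unit
  have hpm : Mono p := Sga3C.ClosedSub.mono_of_left p
  refine ⟨P, hP, p, hpc, ?_, ?_⟩
  · refine MaxTorDesc.isMaximalTorus_of_bc q.left q.left.isOpenMap p hp hpm ?_
    refine AlgBc.isMaximalTorus_of_arrow e (Iso.refl _) ?_ (isMaximalTorus_uf i q hbc)
    rw [he]
    exact Category.comp_id _
  · intro X g γ
    let XM : Over M.left := Over.mk (g.left ≫ q.left)
    let ε : (Over.map M.hom).obj XM ≅ X := Over.isoMk (Iso.refl _) (by
      simp [XM])
    let a : XM ⟶ Over.mk q.left := Over.homMk g.left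
    let Γ : XM ⟶ Red.bc M.hom G := bcEquiv M.hom XM G (ε.hom ≫ γ)
    have h3 : MemAt (uf i q) a Γ ↔ InC i g γ := by
      rw [memAt_uf i q a Γ (ε.hom ≫ g) (Category.id_comp _), Equiv.symm_apply_apply]
      constructor
      · intro h
        have := InC.comp i h ε.inv
        rwa [Iso.inv_hom_id_assoc, Iso.inv_hom_id_assoc] at this
      · intro h
        exact InC.comp i h ε.hom
    have h4 : MemAt (uf i q) a Γ ↔ ∃ x : XM ⟶ P, x ≫ p = Γ := by
      rw [← memAt_map (f := q.left) p a Γ, memAt_iff, memAt_iff]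
      constructor
      · rintro ⟨x, hx⟩
        exact ⟨x ≫ (RedIso.und e).hom, by rw [Category.assoc, he, hx]⟩
      · rintro ⟨x, hx⟩
        exact ⟨x ≫ (RedIso.und e).inv, by rw [← he, Category.assoc, Iso.inv_hom_id_assoc, hx]⟩
    rw [← h3, h4]
    have h5 : Γ.left ≫ pullback.fst G.hom M.hom = γ.left := by
      have h6 : (bcEquiv M.hom XM G).symm Γ = ε.hom ≫ γ := Equiv.symm_apply_apply _ _
      have h7 : ((bcEquiv M.hom XM G).symm Γ).left = Γ.left ≫ pullback.fst G.hom M.hom := by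
        simp [bcEquiv, Adjunction.homEquiv_counit]
      rw [← h7, h6]
      exact Category.id_comp _
    have h8 : Γ.left ≫ pullback.snd G.hom M.hom = g.left ≫ q.left := Over.w Γ
    have h9 : p.left ≫ pullback.snd G.hom M.hom = P.hom := Over.w p
    constructor
    · rintro ⟨x, hx1, hx2⟩
      refine ⟨Over.homMk x hx1, ?_⟩
      ext1
      apply pullback.hom_ext
      · rw [h5]
        exact (Category.assoc _ _ _).trans hx2
      · rw [h8]
        refine (Category.assoc _ _ _).trans ?_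
        rw [h9]
        exact hx1
    · rintro ⟨x, hx⟩
      refine ⟨x.left, Over.w x, ?_⟩
      rw [← h5, ← hx]
      exact (Category.assoc _ _ _).symm

variable {P : Over M.left} (p : P ⟶ Red.bc M.hom G)

/-- The classifying map of a family locally conjugate to `i`. -/
lemma comp_eq_of_conjTo [Flat q.left] [LocallyOfFinitePresentation q.left] [Surjective q.left] (hEQ : EQ i q)
    (hp : ∀ (X : Over S) (g γ : X ⟶ G), Pt p (g.left ≫ q.left) γ.left ↔ InC i g γ)
    {T' : Over S'} (i' : T' ⟶ Red.bc f G) {S'' : Scheme.{u}} (c : S'' ⟶ S')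
    (g : Over.mk (c ≫ f) ⟶ G) (hg : ConjTo i i' c g) (v : S' ⟶ M.left) (hv : v ≫ M.hom = f)
    (hpt : ∀ (X : Scheme.{u}) (y : X ⟶ S') (γ : X ⟶ G.left), Pt i' y γ ↔ Pt p (y ≫ v) γ) :
    c ≫ v = g.left ≫ q.left := by
  let w : pullback (c ≫ v) q.left ⟶ S'' := pullback.fst _ _
  let h : pullback (c ≫ v) q.left ⟶ G.left := pullback.snd _ _
  have hwh : w ≫ c ≫ v = h ≫ q.left := pullback.condition
  have hqM : q.left ≫ M.hom = G.hom := Over.w q
  have hgG : g.left ≫ G.hom = c ≫ f := Over.w g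
  let X : Over S := Over.mk (w ≫ c ≫ f)
  let g' : X ⟶ G := Over.homMk (w ≫ g.left) (by rw [Category.assoc, hgG]; rfl)
  let h' : X ⟶ G := Over.homMk h (by
    rw [← hqM, ← Category.assoc, ← hwh]
    simp only [Category.assoc, hv]
    rfl)
  have key : g' ≫ q = h' ≫ q := by
    rw [hEQ]
    intro Y y γ
    let a : Y ⟶ Over.mk (c ≫ f) := Over.homMk (y.left ≫ w) (by
      have := Over.w y
      rw [← this]
      exact Category.assoc _ _ _)
    have e1 : y ≫ g' = a ≫ g := by
      ext1
      exact (Category.assoc _ _ _).symm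
    have e2 : (y ≫ h').left ≫ q.left = (a.left ≫ c) ≫ v := by
      change (y.left ≫ h) ≫ q.left = ((y.left ≫ w) ≫ c) ≫ v
      rw [Category.assoc, ← hwh]
      simp only [Category.assoc]
    rw [e1, hg Y a γ, hpt, ← e2]
    exact hp Y (y ≫ h') γ
  have hws : Surjective w := inferInstanceAs (Surjective (pullback.fst _ _))
  have hwf : Flat w := inferInstanceAs (Flat (pullback.fst _ _))
  have hwe : Epi w := Flat.epi_of_flat_of_surjective w
  rw [← cancel_epi w, hwh]
  have := congrArg (fun k => k.left) key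
  exact this.symm.trans (Category.assoc _ _ _)

/-- A family locally conjugate to `i` is classified by a morphism to `M`. -/
lemma exists_classifying (hEQ : EQ i q) (hm : Mono p)
    (hp : ∀ (X : Over S) (g γ : X ⟶ G), Pt p (g.left ≫ q.left) γ.left ↔ InC i g γ)
    {T' : Over S'} (i' : T' ⟶ Red.bc f G) (hm' : Mono i') {S'' : Scheme.{u}} (c : S'' ⟶ S')
    [Flat c] [Surjective c] [LocallyOfFinitePresentation c]
    (g : Over.mk (c ≫ f) ⟶ G) (hg : ConjTo i i' c g) :
    ∃ v : S' ⟶ M.left, v ≫ M.hom = f ∧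
      ∀ (X : Scheme.{u}) (y : X ⟶ S') (γ : X ⟶ G.left), Pt i' y γ ↔ Pt p (y ≫ v) γ := by
  have hqM : q.left ≫ M.hom = G.hom := Over.w q
  have hgG : g.left ≫ G.hom = c ≫ f := Over.w g
  have hce : Epi c := Flat.epi_of_flat_of_surjective c
  have h1 : ∀ {Z : Scheme.{u}} (z₁ z₂ : Z ⟶ S''), z₁ ≫ c = z₂ ≫ c →
      z₁ ≫ g.left ≫ q.left = z₂ ≫ g.left ≫ q.left := by
    intro Z z₁ z₂ hz
    let X : Over S := Over.mk (z₁ ≫ c ≫ f)
    let a : X ⟶ Over.mk (c ≫ f) := Over.homMk z₁
    let b : X ⟶ Over.mk (c ≫ f) := Over.homMk z₂ (by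
      change z₂ ≫ c ≫ f = z₁ ≫ c ≫ f
      rw [← Category.assoc, ← hz, Category.assoc])
    have key : (a ≫ g) ≫ q = (b ≫ g) ≫ q := by
      rw [hEQ]
      intro Y y γ
      rw [← Category.assoc, ← Category.assoc, hg Y (y ≫ a) γ, hg Y (y ≫ b) γ]
      have e : (y ≫ a).left ≫ c = (y ≫ b).left ≫ c := by
        change (y.left ≫ z₁) ≫ c = (y.left ≫ z₂) ≫ c
        rw [Category.assoc, hz, Category.assoc]
      rw [e]
    have := congrArg (fun k => k.left) key
    exact (Category.assoc _ _ _).symm.trans (this.trans (Category.assoc _ _ _))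
  let v : S' ⟶ M.left := EffectiveEpi.desc c (g.left ≫ q.left) h1
  have hv : c ≫ v = g.left ≫ q.left := EffectiveEpi.fac _ _ _
  have hvM : v ≫ M.hom = f := by
    rw [← cancel_epi c, ← Category.assoc, hv, Category.assoc, hqM, hgG]
  refine ⟨v, hvM, fun X y γ => ?_⟩
  by_cases hw : γ ≫ G.hom = y ≫ f
  · let c' : pullback y c ⟶ X := pullback.fst _ _
    let s : pullback y c ⟶ S'' := pullback.snd _ _
    have hcs : c' ≫ y = s ≫ c := pullback.condition
    have hf' : Flat c' := inferInstanceAs (Flat (pullback.fst _ _))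
    have hs' : Surjective c' := inferInstanceAs (Surjective (pullback.fst _ _))
    have hl' : LocallyOfFinitePresentation c' :=
      inferInstanceAs (LocallyOfFinitePresentation (pullback.fst _ _))
    let Y : Over S := Over.mk (s ≫ c ≫ f)
    let a : Y ⟶ Over.mk (c ≫ f) := Over.homMk s
    let γ' : Y ⟶ G := Over.homMk (c' ≫ γ) (by
      change (c' ≫ γ) ≫ G.hom = s ≫ c ≫ f
      rw [Category.assoc, hw, ← Category.assoc, hcs, Category.assoc])
    have key : Pt i' (c' ≫ y) (c' ≫ γ) ↔ Pt p (c' ≫ y ≫ v) (c' ≫ γ) := by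
      have h2 := hg Y a γ'
      have h3 := hp Y (a ≫ g) γ'
      have e1 : (a ≫ g).left ≫ q.left = c' ≫ y ≫ v := by
        change (s ≫ g.left) ≫ q.left = _
        rw [Category.assoc, ← hv, ← Category.assoc c', hcs, Category.assoc]
      have e2 : a.left ≫ c = c' ≫ y := hcs.symm
      rw [e1] at h3
      rw [e2] at h2
      exact h2.symm.trans h3.symm
    constructor
    · intro h
      exact Pt.of_cover c' (by rw [hw, Category.assoc, hvM]) (key.1 (Pt.comp c' h))
    · intro h
      exact Pt.of_cover c' hw (key.2 (Pt.comp c' h))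
  · exact ⟨fun h => (hw h.w).elim, fun h => (hw (by rw [h.w, Category.assoc, hvM])).elim⟩

/-- **Representability of the functor of maximal tori** by the quotient `q : G ⟶ M` of `G` by the normaliser of a
maximal torus `i`, if all maximal tori are locally conjugate to `i`. -/
theorem exists_representsMaxTori [GrpObj T] [IsMonHom i] [IsClosedImmersion i.left]
    [Flat q.left] [LocallyOfFinitePresentation q.left] [Surjective q.left] (hEQ : EQ i q)
    (hbc : ∀ {X : Scheme.{u}} (x : X ⟶ S), Red.IsMaximalTorus ((Over.pullback x).map i))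
    (hconj : ∀ (S' : Scheme.{u}) (f : S' ⟶ S) (T' : Over S') [GrpObj T'] (i' : T' ⟶ Red.bc f G),
      Red.IsMaximalTorus i' → ∃ (S'' : Scheme.{u}) (c : S'' ⟶ S') (_ : Flat c) (_ : Surjective c)
        (_ : LocallyOfFinitePresentation c) (g : Over.mk (c ≫ f) ⟶ G), ConjTo i i' c g) :
    ∃ (Tu : Over M.left) (_ : GrpObj Tu) (iu : Tu ⟶ Red.bc M.hom G), IsClosedImmersion iu.left ∧
      SGA3x.RepresentsMaxTori G M Tu iu := by
  obtain ⟨P, hP, p, hpc, hpm, hpp⟩ := exists_univ i q hEQ hbc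
  refine ⟨P, hP, p, hpc, hpm, fun S' f T' _ i' hi' => ?_⟩
  obtain ⟨S'', c, hc1, hc2, hc3, g, hg⟩ := hconj S' f T' i' hi'
  have hm' : Mono i' := hi'.2.1
  have hm : Mono p := hpm.2.1
  have hce : Epi c := Flat.epi_of_flat_of_surjective c
  obtain ⟨v, hv, hpt⟩ := exists_classifying i q p hEQ hm hpp i' hm' c g hg
  refine ⟨v, ⟨hv, exists_iso_of_pt i' M p v hpt⟩, ?_⟩
  rintro v' ⟨hv', φ, hφ1, hφ2⟩
  rw [← cancel_epi c, comp_eq_of_conjTo i q p hEQ hpp i' c g hg v hv hpt,
    comp_eq_of_conjTo i q p hEQ hpp i' c g hg v' hv' (pt_iff_of_iso i' M p v' φ hφ1 hφ2)]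

end Univ

end Groth.Agent.Sga3.H813.RepCrit
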